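import Cfsg.Agent.H882.Ten.Basic

/-!
# Orthogonal tensor decompositions: forms and isometries
-/

set_option autoImplicit false

namespace Cfsg.Agent.H882.Ten

open QuadraticMap hiding proj
open Cfsg.Agent.LieClassical.OrthCore Cfsg.Agent.LieClassical.OrthTrans
open scoped commutatorElement

section one

variable {F : Type*} {V : Type*} [Field F] [AddCommGroup V] [Module F V] {Q : QuadraticForm F V}

theorem Q_eq_half (h2 : (2 : F) ≠ 0) (v : V) : Q v = 2⁻¹ * polar Q v v := by
  rw [polar_self', ← mul_assoc, inv_mul_cancel₀ h2, one_mul]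

theorem mem_O_of_polar (h2 : (2 : F) ≠ 0) {g : V ≃ₗ[F] V} (h : ∀ x y, polar Q (g x) (g y) = polar Q x y) :
    g ∈ O Q := by
  intro v
  rw [Q_eq_half h2, Q_eq_half h2 v, h]

theorem Q_zero_iff (h2 : (2 : F) ≠ 0) (v : V) : Q v = 0 ↔ polar Q v v = 0 := by
  rw [polar_self']
  constructor
  · intro h; rw [h, mul_zero]
  · intro h; exact (mul_eq_zero.1 h).resolve_left h2

/-- `O/E` is elementary abelian. -/
theorem sq_mem_E [FiniteDimensional F V] (hG : Good Q) {g : V ≃ₗ[F] V} (hg : g ∈ O Q) : g * g ∈ E Q := by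
  have hcl := O_eq_closure hG.nondeg (Q := Q)
  have key : ∀ g ∈ Subgroup.closure (reflSet Q ∪ siegelSet Q), g ∈ O Q ∧ g * g ∈ E Q := by
    intro g hg
    induction hg using Subgroup.closure_induction with
    | mem x hx =>
      rcases hx with hx | hx
      · obtain ⟨v, hv, rfl⟩ := hx
        exact ⟨refl_mem_O hv, by rw [refl_mul_self hv]; exact (E Q).one_mem⟩
      · obtain ⟨u, w, hu, hw, rfl⟩ := hx
        exact ⟨siegel_mem_O hu hw, (E Q).mul_mem (siegel_mem_E hu hw) (siegel_mem_E hu hw)⟩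
    | one => exact ⟨(O Q).one_mem, by rw [mul_one]; exact (E Q).one_mem⟩
    | mul a b _ _ ha hb =>
      refine ⟨(O Q).mul_mem ha.1 hb.1, ?_⟩
      have h1 : a⁻¹ * b * a⁻¹⁻¹ * b⁻¹ ∈ E Q := by
        rw [← hG.commutator_eq_E]
        exact Subgroup.commutator_mem_commutator ((O Q).inv_mem ha.1) hb.1
      have e : a * b * (a * b) = (a * a) * (a⁻¹ * b * a⁻¹⁻¹ * b⁻¹) * (b * b) := by group
      rw [e]
      exact (E Q).mul_mem ((E Q).mul_mem ha.2 h1) hb.2
    | inv a _ ha =>
      refine ⟨(O Q).inv_mem ha.1, ?_⟩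
      have e : a⁻¹ * a⁻¹ = (a * a)⁻¹ := by group
      rw [e]
      exact (E Q).inv_mem ha.2
  exact (key g (by rw [← hcl]; exact hg)).2

end one

variable {F : Type*} {U : Type*} {W : Type*} {V : Type*} [Field F] [AddCommGroup U] [Module F U]
  [AddCommGroup W] [Module F W] [AddCommGroup V] [Module F V]

/-- The quadratic space `(V, Q)` is the tensor product of `(U, QU)` and `(W, QW)`. -/
structure TSt (t : U →ₗ[F] W →ₗ[F] V) (QU : QuadraticForm F U) (QW : QuadraticForm F W)
    (Q : QuadraticForm F V) : Prop where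
  ten : IsTensorProduct t
  two : (2 : F) ≠ 0
  pol : ∀ u w u' w', polar Q (t u w) (t u' w') = polar QU u u' * polar QW w w'
  ndU : Nondeg QU
  ndW : Nondeg QW

variable {t : U →ₗ[F] W →ₗ[F] V} {QU : QuadraticForm F U} {QW : QuadraticForm F W} {Q : QuadraticForm F V}

namespace TSt

variable (S : TSt t QU QW Q)

include S

theorem Q_t (u : U) (w : W) : Q (t u w) = 2 * (QU u * QW w) := by
  have h := S.two
  rw [Q_eq_half h, S.pol, polar_self', polar_self']
  field_simp

theorem sing_left {u : U} (hu : QU u = 0) (w : W) : Q (t u w) = 0 := by rw [S.Q_t, hu]; ring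

theorem sing_right (u : U) {w : W} (hw : QW w = 0) : Q (t u w) = 0 := by rw [S.Q_t, hw]; ring

/-- contraction with a vector of `W` -/
noncomputable def cw (x : W) : V →ₗ[F] U := cW S.ten (polarBilin QW x)

/-- contraction with a vector of `U` -/
noncomputable def cu (y : U) : V →ₗ[F] W := cU S.ten (polarBilin QU y)

theorem cw_t (x : W) (u : U) (w : W) : S.cw x (t u w) = polar QW x w • u := cW_apply S.ten _ u w

theorem cu_t (y : U) (u : U) (w : W) : S.cu y (t u w) = polar QU y u • w := cU_apply S.ten _ u w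

theorem polar_cw (v : V) (u : U) (x : W) : polar Q v (t u x) = polar QU (S.cw x v) u := by
  have : (polarBilin Q).flip (t u x) = ((polarBilin QU).flip u) ∘ₗ S.cw x := by
    refine ext_t S.ten fun u' w' => ?_
    rw [LinearMap.comp_apply, S.cw_t]
    show polar Q (t u' w') (t u x) = polar QU (polar QW x w' • u') u
    rw [S.pol, polar_smul_left, smul_eq_mul, polar_comm QW x w']
    ring
  exact LinearMap.congr_fun this v

theorem polar_cu (v : V) (u : U) (x : W) : polar Q v (t u x) = polar QW (S.cu u v) x := by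
  have : (polarBilin Q).flip (t u x) = ((polarBilin QW).flip x) ∘ₗ S.cu u := by
    refine ext_t S.ten fun u' w' => ?_
    rw [LinearMap.comp_apply, S.cu_t]
    show polar Q (t u' w') (t u x) = polar QW (polar QU u u' • w') x
    rw [S.pol, polar_smul_left, smul_eq_mul, polar_comm QU u u']
  exact LinearMap.congr_fun this v

theorem eq_of_polar {u u' : U} (h : ∀ y, polar QU u y = polar QU u' y) : u = u' := by
  rw [← sub_eq_zero]
  refine S.ndU _ fun y => ?_
  rw [polar_sub_left, h, sub_self]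

theorem eq_of_polarW {u u' : W} (h : ∀ y, polar QW u y = polar QW u' y) : u = u' := by
  rw [← sub_eq_zero]
  refine S.ndW _ fun y => ?_
  rw [polar_sub_left, h, sub_self]

theorem cw_eq_zero_iff (v : V) (x : W) : S.cw x v = 0 ↔ ∀ u, polar Q v (t u x) = 0 := by
  constructor
  · intro h u; rw [S.polar_cw, h, polar_zero_left]
  · intro h
    refine S.ndU _ fun y => ?_
    rw [← S.polar_cw, h]

theorem polar_ext {g : V ≃ₗ[F] V}
    (h : ∀ u w u' w', polar Q (g (t u w)) (g (t u' w')) = polar Q (t u w) (t u' w')) (x y : V) :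
    polar Q (g x) (g y) = polar Q x y := by
  have := ext_t2 S.ten (f := (polarBilin Q).compl₁₂ (g : V →ₗ[F] V) (g : V →ₗ[F] V)) (g := polarBilin Q)
    (fun u w u' w' => h u w u' w')
  exact LinearMap.congr_fun (LinearMap.congr_fun this x) y

theorem tm_mem_O_of_sim {k : U ≃ₗ[F] U} {l : W ≃ₗ[F] W} {c : F} (hc : c ≠ 0)
    (hk : ∀ x y, polar QU (k x) (k y) = c * polar QU x y)
    (hl : ∀ x y, polar QW (l x) (l y) = c⁻¹ * polar QW x y) : tm S.ten k l ∈ O Q := by
  refine mem_O_of_polar S.two (S.polar_ext fun u w u' w' => ?_)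
  rw [tm_apply, tm_apply, S.pol, S.pol, hk, hl]
  field_simp

theorem tm_mem_O {k : U ≃ₗ[F] U} {l : W ≃ₗ[F] W} (hk : k ∈ O QU) (hl : l ∈ O QW) : tm S.ten k l ∈ O Q :=
  S.tm_mem_O_of_sim one_ne_zero (fun x y => by rw [polar_map hk, one_mul])
    (fun x y => by rw [polar_map hl, inv_one, one_mul])

theorem rU_mem_O {k : U ≃ₗ[F] U} (hk : k ∈ O QU) : rU S.ten k ∈ O Q := S.tm_mem_O hk (O QW).one_mem

theorem rW_mem_O {l : W ≃ₗ[F] W} (hl : l ∈ O QW) : rW S.ten l ∈ O Q := S.tm_mem_O (O QU).one_mem hl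

/-- The factors of an isometry of the form `k ⊗ l` are similarities. -/
theorem sim_of_mem_O [Nontrivial U] [Nontrivial W] {k : U ≃ₗ[F] U} {l : W ≃ₗ[F] W} (h : tm S.ten k l ∈ O Q) :
    ∃ c : F, c ≠ 0 ∧ (∀ x y, polar QU (k x) (k y) = c * polar QU x y) ∧
      ∀ x y, polar QW (l x) (l y) = c⁻¹ * polar QW x y := by
  have key : ∀ u w u' w', polar QU (k u) (k u') * polar QW (l w) (l w') = polar QU u u' * polar QW w w' := by
    intro u w u' w'
    rw [← S.pol, ← S.pol, ← polar_map h (t u w), tm_apply, tm_apply]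
  obtain ⟨u0, hu0⟩ := exists_ne (0 : U)
  obtain ⟨w0, hw0⟩ := exists_ne (0 : W)
  obtain ⟨u1, hu1⟩ := S.ndU.exists_polar_eq hu0 1
  obtain ⟨w1, hw1⟩ := S.ndW.exists_polar_eq hw0 1
  have h1 := key u0 w0 u1 w1
  rw [hu1, hw1, one_mul] at h1
  set c := polar QU (k u0) (k u1) with hc
  set d := polar QW (l w0) (l w1) with hd
  have hc0 : c ≠ 0 := left_ne_zero_of_mul_eq_one h1
  refine ⟨c, hc0, fun x y => ?_, fun x y => ?_⟩
  · have h2 := key x w0 y w1
    rw [hw1, ← hd, mul_one] at h2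
    calc polar QU (k x) (k y) = polar QU (k x) (k y) * (c * d) := by rw [h1, mul_one]
      _ = c * (polar QU (k x) (k y) * d) := by ring
      _ = _ := by rw [h2]
  · have h2 := key u0 x u1 y
    rw [hu1, ← hc, one_mul] at h2
    rw [← h2, ← mul_assoc, inv_mul_cancel₀ hc0, one_mul]

/-! ### elements of `E Q` -/

theorem rW_commutator {l : W ≃ₗ[F] W} (hl : l ∈ ⁅O QW, O QW⁆) : rW S.ten l ∈ ⁅O Q, O Q⁆ := by
  have h1 : (⁅O QW, O QW⁆).map (rW S.ten) ≤ ⁅O Q, O Q⁆ := by
    rw [Subgroup.map_commutator]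
    refine Subgroup.commutator_mono ?_ ?_ <;>
    · rintro _ ⟨x, hx, rfl⟩
      exact S.rW_mem_O hx
  exact h1 ⟨l, hl, rfl⟩

theorem rU_commutator {k : U ≃ₗ[F] U} (hk : k ∈ ⁅O QU, O QU⁆) : rU S.ten k ∈ ⁅O Q, O Q⁆ := by
  have h1 : (⁅O QU, O QU⁆).map (rU S.ten) ≤ ⁅O Q, O Q⁆ := by
    rw [Subgroup.map_commutator]
    refine Subgroup.commutator_mono ?_ ?_ <;>
    · rintro _ ⟨x, hx, rfl⟩
      exact S.rU_mem_O hx
  exact h1 ⟨k, hk, rfl⟩

theorem rW_mem_E (hG : Good Q) (hGW : Good QW) {l : W ≃ₗ[F] W} (hl : l ∈ E QW) : rW S.ten l ∈ E Q := by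
  rw [← hG.commutator_eq_E]
  rw [← hGW.commutator_eq_E] at hl
  exact S.rW_commutator hl

theorem rU_mem_E_of_comm (hG : Good Q) {k : U ≃ₗ[F] U} (hk : k ∈ ⁅O QU, O QU⁆) : rU S.ten k ∈ E Q := by
  rw [← hG.commutator_eq_E]
  exact S.rU_commutator hk

/-- Siegel transformations of `U`. -/
theorem rU_siegel_mem_E [FiniteDimensional F V] (hG : Good Q) {u x : U} (hu : QU u = 0) (hx : polar QU u x = 0) :
    rU S.ten (siegel QU u x hu hx) ∈ E Q := by
  have hx' : polar QU u ((2 : F)⁻¹ • x) = 0 := by rw [polar_smul_right, hx, smul_zero]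
  have hs : polar QU u ((2 : F)⁻¹ • x + (2 : F)⁻¹ • x) = 0 := by rw [polar_add_right, hx', add_zero]
  have e : (2 : F)⁻¹ • x + (2 : F)⁻¹ • x = x := by
    rw [← add_smul]
    have : (2 : F)⁻¹ + 2⁻¹ = 1 := by
      have := S.two
      field_simp
      norm_num
    rw [this, one_smul]
  have h1 : siegel QU u x hu hx =
      siegel QU u ((2 : F)⁻¹ • x) hu hx' * siegel QU u ((2 : F)⁻¹ • x) hu hx' := by
    rw [siegel_mul hu hx' hx' hs]
    ext v
    rw [siegel_apply, siegel_apply, e]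
  rw [h1, map_mul]
  exact sq_mem_E hG (S.rU_mem_O (siegel_mem_O hu hx'))

/-- Products of two reflections of `U` at orthogonal vectors of equal norm. -/
theorem rU_refl_mem_E (hG : Good Q) {x y : U} (hx : QU x ≠ 0) (hy : QU y ≠ 0) (h : QU x = QU y)
    (hxy : polar QU x y = 0) : rU S.ten (refl QU x hx * refl QU y hy) ∈ E Q := by
  refine S.rU_mem_E_of_comm hG ?_
  have hd : QU (y - x) ≠ 0 := by
    rw [sub_eq_add_neg, Q_add, QuadraticMap.map_neg, polar_neg_right, polar_comm, hxy, neg_zero, add_zero, h,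
      ← two_mul]
    exact mul_ne_zero S.two hy
  have h1 : refl QU (y - x) hd x = y := by
    have h0 := refl_sub_apply h hd
    have h00 := LinearEquiv.congr_fun (refl_mul_self hd) y
    have h01 : refl QU (y - x) hd (refl QU (y - x) hd y) = y := h00
    rwa [h0] at h01
  have h2 : refl QU y hy = refl QU (y - x) hd * refl QU x hx * (refl QU (y - x) hd)⁻¹ := by
    have h3 : QU (refl QU (y - x) hd x) ≠ 0 := by rw [h1]; exact hy
    rw [refl_conj (refl_mem_O hd) hx h3]
    ext v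
    rw [refl_apply, refl_apply, h1]
  rw [h2]
  have h4 : refl QU x hx * (refl QU (y - x) hd * refl QU x hx * (refl QU (y - x) hd)⁻¹) =
      ⁅refl QU x hx, refl QU (y - x) hd⁆ := by
    rw [commutatorElement_def, refl_inv hx]
    group
  rw [h4]
  exact Subgroup.commutator_mem_commutator (refl_mem_O hx) (refl_mem_O hd)

end TSt

end Cfsg.Agent.H882.Ten
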