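import Mathlib.RingTheory.IsTensorProduct
import Cfsg.Agent.H883.Root

/-!
# Orthogonal tensor decompositions: basics

`t : U → W → V` a tensor product of quadratic spaces over a field of characteristic not two, coordinate free.
-/

set_option autoImplicit false

namespace Cfsg.Agent.H882.Ten

open QuadraticMap hiding proj
open Cfsg.Agent.LieClassical.OrthCore Cfsg.Agent.LieClassical.OrthTrans

universe u

section lin

variable {F : Type*} {U : Type*} {W : Type*} {V : Type*} {X : Type*} [Field F] [AddCommGroup U] [Module F U]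
  [AddCommGroup W] [Module F W] [AddCommGroup V] [Module F V] [AddCommGroup X] [Module F X]
  {t : U →ₗ[F] W →ₗ[F] V}

theorem ext_t (ht : IsTensorProduct t) {f g : V →ₗ[F] X} (h : ∀ u w, f (t u w) = g (t u w)) : f = g := by
  ext v
  induction v using ht.inductionOn with
  | zero => rw [map_zero, map_zero]
  | tmul x y => exact h x y
  | add x y hx hy => rw [map_add, map_add, hx, hy]

theorem ext_t' (ht : IsTensorProduct t) {f g : V ≃ₗ[F] X} (h : ∀ u w, f (t u w) = g (t u w)) : f = g := by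
  have := ext_t ht (f := (f : V →ₗ[F] X)) (g := (g : V →ₗ[F] X)) h
  ext v
  exact LinearMap.congr_fun this v

/-- The bilinear version. -/
theorem ext_t2 (ht : IsTensorProduct t) {f g : V →ₗ[F] V →ₗ[F] X}
    (h : ∀ u w u' w', f (t u w) (t u' w') = g (t u w) (t u' w')) : f = g := by
  refine ext_t ht fun u w => ext_t ht fun u' w' => h u w u' w'

/-- Contraction with a linear form on `W`. -/
noncomputable def cW (ht : IsTensorProduct t) (φ : W →ₗ[F] F) : V →ₗ[F] U :=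
  ht.lift (LinearMap.flip (φ.smulRight (LinearMap.id : U →ₗ[F] U)))

theorem cW_apply (ht : IsTensorProduct t) (φ : W →ₗ[F] F) (u : U) (w : W) : cW ht φ (t u w) = φ w • u := by
  rw [cW, ht.lift_eq]
  simp

/-- Contraction with a linear form on `U`. -/
noncomputable def cU (ht : IsTensorProduct t) (φ : U →ₗ[F] F) : V →ₗ[F] W :=
  ht.lift (φ.smulRight (LinearMap.id : W →ₗ[F] W))

theorem cU_apply (ht : IsTensorProduct t) (φ : U →ₗ[F] F) (u : U) (w : W) : cU ht φ (t u w) = φ u • w := by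
  rw [cU, ht.lift_eq]
  simp

theorem eq_zero_of_t {u : U} {w : W} (ht : IsTensorProduct t) (h : t u w = 0) (hw : w ≠ 0) : u = 0 := by
  obtain ⟨φ, hφ⟩ := Module.Projective.exists_dual_ne_zero F hw
  have h1 := cW_apply ht φ u w
  rw [h, map_zero] at h1
  exact (smul_eq_zero.1 h1.symm).resolve_left hφ

theorem t_ne {u : U} {w : W} (ht : IsTensorProduct t) (hu : u ≠ 0) (hw : w ≠ 0) : t u w ≠ 0 :=
  fun h => hu (eq_zero_of_t ht h hw)

theorem t_right_inj {u : U} {w w' : W} (ht : IsTensorProduct t) (hu : u ≠ 0) (h : t u w = t u w') : w = w' := by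
  by_contra hne
  have h1 : t u (w - w') = 0 := by rw [map_sub, h, sub_self]
  exact hu (eq_zero_of_t ht h1 (sub_ne_zero.2 hne))

theorem t_left_inj {u u' : U} {w : W} (ht : IsTensorProduct t) (hw : w ≠ 0) (h : t u w = t u' w) : u = u' := by
  have h1 : t (u - u') w = 0 := by rw [map_sub, LinearMap.sub_apply, h, sub_self]
  exact sub_eq_zero.1 (eq_zero_of_t ht h1 hw)

/-- `k ⊗ l`. -/
noncomputable def tm (ht : IsTensorProduct t) (k : U ≃ₗ[F] U) (l : W ≃ₗ[F] W) : V ≃ₗ[F] V :=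
  LinearEquiv.ofLinearMap (ht.map ht k.toLinearMap l.toLinearMap) (ht.map ht k.symm.toLinearMap l.symm.toLinearMap)
    (ext_t ht fun u w => by
      rw [LinearMap.comp_apply, ht.map_eq, ht.map_eq]
      simp)
    (ext_t ht fun u w => by
      rw [LinearMap.comp_apply, ht.map_eq, ht.map_eq]
      simp)

theorem tm_apply (ht : IsTensorProduct t) (k : U ≃ₗ[F] U) (l : W ≃ₗ[F] W) (u : U) (w : W) :
    tm ht k l (t u w) = t (k u) (l w) := by
  show ht.map ht k.toLinearMap l.toLinearMap (t u w) = _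
  rw [ht.map_eq]
  rfl

theorem tm_mul (ht : IsTensorProduct t) (k k' : U ≃ₗ[F] U) (l l' : W ≃ₗ[F] W) :
    tm ht (k * k') (l * l') = tm ht k l * tm ht k' l' := by
  refine ext_t' ht fun u w => ?_
  rw [tm_apply]
  show t (k (k' u)) (l (l' w)) = tm ht k l (tm ht k' l' (t u w))
  rw [tm_apply, tm_apply]

theorem tm_one (ht : IsTensorProduct t) : tm ht (1 : U ≃ₗ[F] U) (1 : W ≃ₗ[F] W) = 1 := by
  refine ext_t' ht fun u w => ?_
  rw [tm_apply]
  rfl

theorem tm_inv (ht : IsTensorProduct t) (k : U ≃ₗ[F] U) (l : W ≃ₗ[F] W) :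
    (tm ht k l)⁻¹ = tm ht k⁻¹ l⁻¹ := by
  rw [inv_eq_iff_mul_eq_one, ← tm_mul, mul_inv_cancel, mul_inv_cancel, tm_one]

/-- `l ↦ 1 ⊗ l` as a homomorphism. -/
noncomputable def rW (ht : IsTensorProduct t) : (W ≃ₗ[F] W) →* (V ≃ₗ[F] V) where
  toFun l := tm ht 1 l
  map_one' := tm_one ht
  map_mul' l l' := by
    have := tm_mul ht 1 1 l l'
    rwa [mul_one] at this

/-- `k ↦ k ⊗ 1` as a homomorphism. -/
noncomputable def rU (ht : IsTensorProduct t) : (U ≃ₗ[F] U) →* (V ≃ₗ[F] V) where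
  toFun k := tm ht k 1
  map_one' := tm_one ht
  map_mul' l l' := by
    have := tm_mul ht l l' 1 1
    rwa [mul_one] at this

theorem rW_apply (ht : IsTensorProduct t) (l : W ≃ₗ[F] W) (u : U) (w : W) : rW ht l (t u w) = t u (l w) :=
  tm_apply ht 1 l u w

theorem rU_apply (ht : IsTensorProduct t) (k : U ≃ₗ[F] U) (u : U) (w : W) : rU ht k (t u w) = t (k u) w :=
  tm_apply ht k 1 u w

theorem tm_eq (ht : IsTensorProduct t) (k : U ≃ₗ[F] U) (l : W ≃ₗ[F] W) : tm ht k l = rU ht k * rW ht l := by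
  have := tm_mul ht k 1 1 l
  rwa [mul_one, one_mul] at this

theorem rU_rW (ht : IsTensorProduct t) (k : U ≃ₗ[F] U) (l : W ≃ₗ[F] W) :
    rU ht k * rW ht l = rW ht l * rU ht k := by
  refine ext_t' ht fun u w => ?_
  rw [LinearEquiv.mul_apply, LinearEquiv.mul_apply, rW_apply, rU_apply, rU_apply, rW_apply]

/-- The group of all `k ⊗ l`. -/
def TT (t : U →ₗ[F] W →ₗ[F] V) (ht : IsTensorProduct t) : Subgroup (V ≃ₗ[F] V) where
  carrier := {g | ∃ (k : U ≃ₗ[F] U) (l : W ≃ₗ[F] W), g = tm ht k l}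
  one_mem' := ⟨1, 1, (tm_one ht).symm⟩
  mul_mem' := by
    rintro _ _ ⟨k, l, rfl⟩ ⟨k', l', rfl⟩
    exact ⟨k * k', l * l', (tm_mul ht k k' l l').symm⟩
  inv_mem' := by
    rintro _ ⟨k, l, rfl⟩
    exact ⟨k⁻¹, l⁻¹, tm_inv ht k l⟩

theorem mem_TT {ht : IsTensorProduct t} {g : V ≃ₗ[F] V} : g ∈ TT t ht ↔ ∃ k l, g = tm ht k l := Iff.rfl

theorem tm_mem_TT (ht : IsTensorProduct t) (k : U ≃ₗ[F] U) (l : W ≃ₗ[F] W) : tm ht k l ∈ TT t ht := ⟨k, l, rfl⟩

theorem mem_TT_of {ht : IsTensorProduct t} {g : V ≃ₗ[F] V} {k : U ≃ₗ[F] U} {l : W ≃ₗ[F] W}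
    (h : ∀ u w, g (t u w) = t (k u) (l w)) : g ∈ TT t ht :=
  ⟨k, l, ext_t' ht fun u w => by rw [h, tm_apply]⟩

theorem exists_ne_of_ne {u u' : U} (h : ∀ c : F, u' ≠ c • u) : ∃ φ : U →ₗ[F] F, φ u = 0 ∧ φ u' ≠ 0 := by
  have h1 : u' ∉ Submodule.span F {u} := by
    intro h2
    obtain ⟨c, hc⟩ := Submodule.mem_span_singleton.1 h2
    exact h c hc.symm
  obtain ⟨φ, hφ, hφ'⟩ := Submodule.exists_le_ker_of_notMem h1
  exact ⟨φ, hφ' (Submodule.mem_span_singleton_self u), hφ⟩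

/-- Independent left vectors separate. -/
theorem eq_zero_of_add {u u' : U} {w w' : W} (ht : IsTensorProduct t) (h : t u w + t u' w' = 0)
    (hu : ∀ c : F, u' ≠ c • u) : w' = 0 := by
  obtain ⟨φ, h1, h2⟩ := exists_ne_of_ne hu
  have h3 := congrArg (cU ht φ) h
  rw [map_add, cU_apply, cU_apply, h1, zero_smul, zero_add, map_zero] at h3
  exact (smul_eq_zero.1 h3).resolve_left h2

end lin

end Cfsg.Agent.H882.Ten
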