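import Cfsg.Agent.H882.Ten.RadTwo

/-!
# Self-adjoint operators commuting with their conjugates under Siegel transformations are scalars
-/

set_option autoImplicit false
set_option linter.unusedSimpArgs false
set_option linter.unusedSectionVars false

namespace Cfsg.Agent.H882.Ten

open QuadraticMap hiding proj
open Cfsg.Agent.LieClassical.OrthCore Cfsg.Agent.LieClassical.OrthTrans

variable {F : Type*} {U : Type*} [Field F] [AddCommGroup U] [Module F U] {Q : QuadraticForm F U}

/-- Expansion in dimension 3. -/
theorem expand3 (hd : Module.finrank F U = 3) {u u' v : U} (hyp : Hyp Q u u') (h1 : polar Q u v = 0)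
    (h2 : polar Q u' v = 0) (hv : polar Q v v ≠ 0) (p : U) :
    p = polar Q u' p • u + polar Q u p • u' + ((polar Q v v)⁻¹ * polar Q v p) • v := by
  have hli : LinearIndependent F ![u, u', v] := by
    rw [Fintype.linearIndependent_iff]
    intro c hc
    rw [Fin.sum_univ_three] at hc
    have hc' : c 0 • u + c 1 • u' + c 2 • v = 0 := hc
    have e1 := congrArg (polar Q u) hc'
    have e2 := congrArg (polar Q u') hc'
    have e3 := congrArg (polar Q v) hc'
    simp only [polar_add_right, polar_smul_right, hyp.polar_left, hyp.pair, hyp.pair', hyp.polar_right, h1, h2,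
      polar_comm Q v u, polar_comm Q v u', polar_zero_right, smul_eq_mul, mul_zero, mul_one, zero_add,
      add_zero] at e1 e2 e3
    have e4 : c 2 = 0 := (mul_eq_zero.1 e3).resolve_right hv
    intro i
    fin_cases i
    · exact e2
    · exact e1
    · exact e4
  have hsp := hli.span_eq_top_of_card_eq_finrank (by simp [hd])
  have hp : p ∈ Submodule.span F (Set.range ![u, u', v]) := by rw [hsp]; trivial
  rw [Submodule.mem_span_range_iff_exists_fun] at hp
  obtain ⟨c, hc⟩ := hp
  rw [Fin.sum_univ_three] at hc
  have hc' : c 0 • u + c 1 • u' + c 2 • v = p := hc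
  have e1 := congrArg (polar Q u) hc'
  have e2 := congrArg (polar Q u') hc'
  have e3 := congrArg (polar Q v) hc'
  simp only [polar_add_right, polar_smul_right, hyp.polar_left, hyp.pair, hyp.pair', hyp.polar_right, h1, h2,
    polar_comm Q v u, polar_comm Q v u', polar_zero_right, smul_eq_mul, mul_zero, mul_one, zero_add,
    add_zero] at e1 e2 e3
  rw [← e1, ← e2, ← e3, ← hc']
  congr 2
  field_simp

/-- the key computation: `[α, s α s⁻¹] u = 0` for `s = siegel u x`. -/
theorem comm_eq {α : U →ₗ[F] U} (hα : ∀ v v', polar Q (α v) v' = polar Q v (α v')) {u x : U} (hu : Q u = 0)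
    (hx : polar Q u x = 0) (hvu : polar Q u (α u) = 0)
    (hc : ∀ p, α (cj (siegel Q u x hu hx) α p) = cj (siegel Q u x hu hx) α (α p)) :
    polar Q (α u) (α u) • x + (2 * polar Q x (α u)) • α u =
      (polar Q x (α (α u)) + Q x * polar Q (α u) (α u) + polar Q x (α u) * polar Q x (α u)) • u := by
  have h1 := hc u
  have hxu : polar Q x u = 0 := by rw [polar_comm]; exact hx
  have huu : polar Q u u = 0 := polar_self_of_sing hu
  have e1 : polar Q u (α (α u)) = polar Q (α u) (α u) := (hα u (α u)).symm
  simp only [cj_apply, siegel_inv_apply, siegel_apply, map_sub, map_add, map_smul, polar_sub_right,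
    polar_add_right, polar_smul_right, hx, hxu, huu, hvu, e1, smul_eq_mul, zero_smul, mul_zero, sub_zero,
    add_zero, zero_add] at h1
  have h2 : α (α u) - polar Q x (α u) • α u -
      (α (α u) + polar Q x (α u) • α u + polar Q (α u) (α u) • x -
        (polar Q x (α (α u)) + polar Q x (α u) * polar Q x (α u)) • u -
        (Q x * polar Q (α u) (α u)) • u) = 0 := by
    rw [sub_eq_zero, h1]
    module
  have h3 : polar Q (α u) (α u) • x + (2 * polar Q x (α u)) • α u -
      (polar Q x (α (α u)) + Q x * polar Q (α u) (α u) + polar Q x (α u) * polar Q x (α u)) • u =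
      -(α (α u) - polar Q x (α u) • α u -
      (α (α u) + polar Q x (α u) • α u + polar Q (α u) (α u) • x -
        (polar Q x (α (α u)) + polar Q x (α u) * polar Q x (α u)) • u -
        (Q x * polar Q (α u) (α u)) • u)) := by module
  rw [h2, neg_zero, sub_eq_zero] at h3
  exact h3

/-- Dimension 3, characteristic 3. -/
theorem comm_three (h2 : (2 : F) ≠ 0) (h3 : (3 : F) = 0) (hd : Module.finrank F U = 3)
    (hF : ∃ c : F, c ≠ 0 ∧ c * c ≠ 1) {α : U →ₗ[F] U} (hα : ∀ v v', polar Q (α v) v' = polar Q v (α v'))
    {u u' : U} (hyp : Hyp Q u u') (hvu : polar Q u (α u) = 0) (hvu' : polar Q u' (α u) = 0)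
    (hv : polar Q (α u) (α u) ≠ 0)
    (hc : ∀ (x : U) (hx : polar Q u x = 0) (p : U),
      α (cj (siegel Q u x hyp.left hx) α p) = cj (siegel Q u x hyp.left hx) α (α p)) : False := by
  set v := α u with hvdef
  set δ := polar Q v v with hδ
  have huv : polar Q v u = 0 := by rw [polar_comm]; exact hvu
  have hu'v : polar Q v u' = 0 := by rw [polar_comm]; exact hvu'
  have e1 : polar Q u (α v) = δ := (hα u v).symm
  -- `(v, α v) = 0`
  have e2 : polar Q v (α v) = 0 := by
    have h1 := comm_eq hα hyp.left hvu hvu (hc v hvu)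
    rw [← hvdef, ← hδ] at h1
    have h4 := congrArg (polar Q u') h1
    simp only [polar_add_right, polar_smul_right, hvu', hyp.pair', smul_eq_mul, mul_zero, add_zero, mul_one] at h4
    have hQ : Q v = 2⁻¹ * δ := Q_eq_half h2 v
    rw [hQ] at h4
    have h5 : (2 : F)⁻¹ * 2 = 1 := inv_mul_cancel₀ h2
    linear_combination -h4 - (2⁻¹ * δ * δ) * h3 + (δ * δ) * h5
  set ε := polar Q u' (α v) with hε
  have exp := expand3 hd hyp hvu hvu' hv
  have hav : α v = ε • u + δ • u' := by
    have := exp (α v)
    rw [e1, e2] at this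
    rw [this, ← hε]
    module
  have f1 : polar Q u (α u') = 0 := by rw [← hα u u']; rw [polar_comm]; exact hvu'
  have f2 : polar Q v (α u') = ε := by rw [← hα v u', polar_comm]
  set ζ := polar Q u' (α u') with hζ
  have hau' : α u' = ζ • u + (δ⁻¹ * ε) • v := by
    have := exp (α u')
    rw [f1, f2] at this
    rw [this, ← hζ]
    module
  -- the relation for `x = c v`
  have key : ∀ c : F, c * (ε + c * c * (δ * δ)) = 0 := by
    intro c
    have hx : polar Q u (c • v) = 0 := by rw [polar_smul_right, hvu, smul_zero]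
    have h1 := hc (c • v) hx u'
    have hQ : Q v = 2⁻¹ * δ := Q_eq_half h2 v
    have h4 := congrArg (polar Q v) h1
    simp only [cj_apply, siegel_inv_apply, siegel_apply, QuadraticMap.map_smul, hQ, map_sub, map_add, map_smul,
      polar_sub_right, polar_add_right, polar_smul_right, polar_smul_left, polar_sub_left, polar_add_left,
      hyp.polar_left, hyp.pair, hyp.pair', hyp.polar_right, hvu, hvu', huv, hu'v, ← hvdef, hav, hau', ← hδ,
      smul_eq_mul, mul_zero, mul_one, zero_add, add_zero, sub_zero] at h4
    have hi : δ⁻¹ * δ = 1 := inv_mul_cancel₀ hv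
    have hJ : (2 : F)⁻¹ * 2 = 1 := inv_mul_cancel₀ h2
    have h5 : δ * (c * (ε + c * c * (δ * δ))) = 0 := by
      linear_combination h4 + (4 * c * ε * δ) * hi + (2 * c * ε * δ) * h3 - (c * c * c * δ * δ * δ) * hJ
    exact (mul_eq_zero.1 h5).resolve_left hv
  obtain ⟨c, hc0, hc1⟩ := hF
  have k1 := key 1
  have k2 := key c
  have k3 := (mul_eq_zero.1 k2).resolve_left hc0
  have : (c * c - 1) * (δ * δ) = 0 := by linear_combination k3 - k1
  rcases mul_eq_zero.1 this with h | h
  · exact hc1 (by linear_combination h)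
  · exact hv (mul_self_eq_zero.1 h)

/-- **The commuting lemma.** `P` a set of self-adjoint operators, closed under `α ↦ s α s⁻¹ - α` (`s` a Siegel
transformation) and with `[α, s α s⁻¹] = 0`; then `P` consists of scalars. -/
theorem scalar_of_commute [FiniteDimensional F U] (h2 : (2 : F) ≠ 0) (hQ : Nondeg Q)
    (hd : 3 ≤ Module.finrank F U) (hF : 4 ≤ Module.finrank F U ∨ ∃ c : F, c ≠ 0 ∧ c * c ≠ 1)
    {x0 y0 : U} (h0 : Hyp Q x0 y0) (P : (U →ₗ[F] U) → Prop)
    (hsym : ∀ α, P α → ∀ v v', polar Q (α v) v' = polar Q v (α v'))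
    (hcj : ∀ α, P α → ∀ (u x : U) (hu : Q u = 0) (hx : polar Q u x = 0), P (cj (siegel Q u x hu hx) α - α))
    (hcom : ∀ α, P α → ∀ (u x : U) (hu : Q u = 0) (hx : polar Q u x = 0) (p : U),
      α (cj (siegel Q u x hu hx) α p) = cj (siegel Q u x hu hx) α (α p))
    {α : U →ₗ[F] U} (hα : P α) : ∃ c : F, ∀ v, α v = c • v := by
  refine scalar_of_sing h2 hQ hd h0 α ?_
  -- first: no singular `u` with `α u ⊥ u`, `α u ∉ ⟨u⟩`
  have main : ∀ α, P α → ∀ u, Q u = 0 → polar Q u (α u) = 0 → ∃ c : F, α u = c • u := by
    intro α hα u hu hvu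
    by_contra hcon
    push Not at hcon
    have hu0 : u ≠ 0 := by
      rintro rfl
      exact hcon 0 (by simp)
    have hS := hsym α hα
    have hC := hcom α hα
    -- `(v, v) ≠ 0`
    have hv : polar Q (α u) (α u) ≠ 0 := by
      intro hv
      obtain ⟨x, hx, hx2⟩ := exists_sep hQ hcon
      have h1 := comm_eq hS hu hx hvu (hC u x hu hx)
      rw [hv, zero_smul, zero_add, polar_comm Q x, hx2, mul_one] at h1
      refine hcon (2⁻¹ * (polar Q x (α (α u)) + Q x * 0 + 1 * 1)) ?_
      rw [← smul_smul, ← h1, smul_smul, inv_mul_cancel₀ h2, one_smul]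
    obtain ⟨u', hyp⟩ := LieClassical.OrthTrans.exists_hyp hQ hu hu0
    by_cases hd4 : 4 ≤ Module.finrank F U
    · obtain ⟨x, hx0, hx⟩ := exists_perp_ne (Q := Q) ![u, α u, u'] (by omega)
      have hxu : polar Q u x = 0 := hx 0
      have hxv : polar Q (α u) x = 0 := hx 1
      have hxu' : polar Q u' x = 0 := hx 2
      have h1 := comm_eq hS hu hxu hvu (hC u x hu hxu)
      rw [polar_comm Q x (α u), hxv, mul_zero, zero_smul, add_zero, mul_zero, add_zero] at h1
      have h3 := congrArg (polar Q u') h1
      rw [polar_smul_right, hxu', smul_zero, polar_smul_right, hyp.pair', smul_eq_mul, mul_one] at h3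
      rw [← h3, zero_smul] at h1
      exact hx0 ((smul_eq_zero.1 h1).resolve_left hv)
    · have hd3 : Module.finrank F U = 3 := by omega
      have hF' := hF.resolve_left hd4
      by_cases h3 : (3 : F) = 0
      · -- adapt the partner of `u`
        set v := α u with hvdef
        set m := polar Q v u' with hm
        have hvs : polar Q v u = 0 := by rw [polar_comm]; exact hvu
        -- `u'' = u' - (m/δ) v - (m²/2δ) u`
        set δ := polar Q v v with hδ
        have hQv : Q v = 2⁻¹ * δ := Q_eq_half h2 v
        have hyp' : Hyp Q u (u' - (m * δ⁻¹) • v + (2⁻¹ * m * m * δ⁻¹) • u) := by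
          refine ⟨hu, ?_, ?_⟩
          · rw [Q_zero_iff h2]
            simp only [polar_sub_left, polar_sub_right, polar_add_left, polar_add_right, polar_smul_left,
              polar_smul_right, hyp.polar_left,
              hyp.polar_right, hyp.pair, hyp.pair', hvu, hvs, ← hδ, ← hm, polar_comm Q u' v, smul_eq_mul]
            have hi : δ⁻¹ * δ = 1 := inv_mul_cancel₀ hv
            have hJ : (2 : F)⁻¹ * 2 = 1 := inv_mul_cancel₀ h2
            linear_combination (m * m * δ⁻¹) * hi + (m * m * δ⁻¹) * hJ
          · simp only [polar_sub_right, polar_add_right, polar_smul_right, hyp.polar_left, hyp.pair, hvu, smul_eq_mul, mul_zero,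
              sub_zero, add_zero]
        have hv' : polar Q (u' - (m * δ⁻¹) • v + (2⁻¹ * m * m * δ⁻¹) • u) v = 0 := by
          simp only [polar_sub_left, polar_add_left, polar_smul_left, hvu, ← hδ, polar_comm Q u' v, ← hm, smul_eq_mul, mul_zero,
            sub_zero, add_zero]
          have hi : δ⁻¹ * δ = 1 := inv_mul_cancel₀ hv
          linear_combination -m * hi
        exact comm_three h2 h3 hd3 hF' hS hyp' hvu hv' hv fun x hx p => hC u x hu hx p
      · have h1 := comm_eq hS hu hvu hvu (hC u (α u) hu hvu)
        apply hcon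
        have h4 : (3 * polar Q (α u) (α u)) ≠ 0 := mul_ne_zero h3 hv
        have h5 : polar Q (α u) (α u) • α u + (2 * polar Q (α u) (α u)) • α u =
          (3 * polar Q (α u) (α u)) • α u := by module
        rw [h5] at h1
        have h6 := congrArg (fun z => (3 * polar Q (α u) (α u))⁻¹ • z) h1
        simp only [smul_smul, inv_mul_cancel₀ h4, one_smul] at h6
        exact h6
  intro u hu
  by_contra hcon
  push Not at hcon
  have hu0 : u ≠ 0 := by
    rintro rfl
    exact hcon 0 (by simp)
  by_cases hvu : polar Q u (α u) = 0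
  · obtain ⟨c, hc⟩ := main α hα u hu hvu
    exact hcon c hc
  · obtain ⟨u', hyp⟩ := LieClassical.OrthTrans.exists_hyp hQ hu hu0
    obtain ⟨x, hx, hx', hxn⟩ := exists_nonsing_perp hQ hd hyp
    have hb := hcj α hα u x hu hx
    have hxu : polar Q x u = 0 := by rw [polar_comm]; exact hx
    have huu : polar Q u u = 0 := polar_self_of_sing hu
    have e : (cj (siegel Q u x hu hx) α - α) u = polar Q u (α u) • x -
        (polar Q x (α u) + Q x * polar Q u (α u)) • u := by
      simp only [LinearMap.sub_apply, cj_apply, siegel_inv_apply, siegel_apply, map_sub, map_add, map_smul,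
        polar_sub_right, polar_add_right, polar_smul_right, hx, hxu, huu, smul_eq_mul, zero_smul, mul_zero,
        sub_zero, add_zero, zero_add]
      module
    obtain ⟨c, hc⟩ := main _ hb u hu (by
      rw [e, polar_sub_right, polar_smul_right, polar_smul_right, hx, huu]; simp)
    rw [e] at hc
    have h3 := congrArg (polar Q x) hc
    rw [polar_sub_right, polar_smul_right, polar_smul_right, polar_smul_right, hxu, polar_self'] at h3
    simp only [smul_eq_mul, mul_zero, sub_zero] at h3
    exact mul_ne_zero hvu (mul_ne_zero h2 hxn) h3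

end Cfsg.Agent.H882.Ten
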