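import Cfsg.Agent.H882.Ten.Form

/-!
# Lemmas on quadratic spaces of dimension at least 3 with a hyperbolic pair
-/

set_option autoImplicit false

namespace Cfsg.Agent.H882.Ten

open QuadraticMap hiding proj
open Cfsg.Agent.LieClassical.OrthCore Cfsg.Agent.LieClassical.OrthTrans

variable {F : Type*} {V : Type*} [Field F] [AddCommGroup V] [Module F V] {Q : QuadraticForm F V}

theorem exists_nonsing_perp (hQ : Nondeg Q) (hd : 3 ≤ Module.finrank F V) {x y : V} (h : Hyp Q x y) :
    ∃ z, polar Q x z = 0 ∧ polar Q y z = 0 ∧ Q z ≠ 0 := by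
  obtain ⟨a, c, h1, h2, h3, h4, h5⟩ := exists_perp2 hQ hd h
  rcases exists_nonsing h5 with h | h | h
  · exact ⟨a, h1, h2, h⟩
  · exact ⟨c, h3, h4, h⟩
  · exact ⟨a + c, by rw [polar_add_right, h1, h3, add_zero], by rw [polar_add_right, h2, h4, add_zero], h⟩

/-- Induction over `x` and its non-orthogonal singular vectors. -/
theorem op_ind {x y : V} (h : Hyp Q x y) {P : V → Prop} (hadd : ∀ a c, P a → P c → P (a + c))
    (hself : ∀ c : F, P (c • x)) (hop : ∀ a, Q a = 0 → polar Q x a ≠ 0 → P a) (v : V) : P v := by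
  set v' := proj Q x y v with hv'
  have hsing : Q (y + v' - Q v' • x) = 0 := sing_vec h.symm (polar_proj_right h v) (polar_proj_left h v)
  have hpol : polar Q x (y + v' - Q v' • x) = 1 := by
    rw [polar_sub_right, polar_add_right, polar_smul_right, h.polar_left, h.pair, hv', polar_proj_left h]
    simp
  have hy : ∀ c : F, P (c • y) := by
    intro c
    by_cases hc : c = 0
    · subst hc
      have := hself 0
      rwa [zero_smul] at this ⊢
    · refine hop _ (by rw [QuadraticMap.map_smul, h.right, smul_zero]) ?_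
      rw [polar_smul_right, h.pair, smul_eq_mul, mul_one]
      exact hc
  have e : v = ((y + v' - Q v' • x) + ((polar Q x v - 1) • y)) + (polar Q y v + Q v') • x := by
    rw [hv', proj]; module
  rw [e]
  exact hadd _ _ (hadd _ _ (hop _ hsing (by rw [hpol]; exact one_ne_zero)) (hy _)) (hself _)

/-- A third singular vector. -/
theorem exists_third (hQ : Nondeg Q) (hd : 3 ≤ Module.finrank F V) {x y : V} (h : Hyp Q x y) :
    ∃ z, Q z = 0 ∧ polar Q z x ≠ 0 ∧ polar Q z y ≠ 0 := by
  obtain ⟨a, h1, h2, h3⟩ := exists_nonsing_perp hQ hd h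
  refine ⟨x + a - Q a • y, sing_vec h h1 h2, ?_, ?_⟩
  · rw [polar_sub_left, polar_add_left, polar_smul_left, h.polar_left, polar_comm Q a x, h1, h.pair']
    simpa using h3
  · rw [polar_sub_left, polar_add_left, polar_smul_left, h.polar_right, polar_comm Q a y, h2, h.pair]
    simp

/-- If all singular vectors are eigenvectors of `κ` then `κ` is a scalar. -/
theorem scalar_of_sing (h2 : (2 : F) ≠ 0) (hQ : Nondeg Q) (hd : 3 ≤ Module.finrank F V) {x y : V}
    (h : Hyp Q x y) (κ : V →ₗ[F] V) (hκ : ∀ u, Q u = 0 → ∃ c : F, κ u = c • u) :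
    ∃ c : F, ∀ v, κ v = c • v := by
  obtain ⟨c, hc⟩ := hκ x h.left
  obtain ⟨c', hc'⟩ := hκ y h.right
  have key : ∀ z, polar Q x z = 0 → polar Q y z = 0 → κ z = c • z ∧ (Q z ≠ 0 → c' = c) := by
    intro z hxz hyz
    by_cases hz0 : z = 0
    · subst hz0
      refine ⟨by simp, fun h => absurd (QuadraticMap.map_zero Q) h⟩
    obtain ⟨z', hz'⟩ := hQ.exists_polar_eq hz0 1
    set z'' := proj Q x y z' with hz''
    have hzz : polar Q z z'' = 1 := by rw [hz'', polar_proj_of_perp hxz hyz, hz']
    have hxz'' : polar Q x z'' = 0 := polar_proj_left h _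
    have hyz'' : polar Q y z'' = 0 := polar_proj_right h _
    have s1 : Q (x + z - Q z • y) = 0 := sing_vec h hxz hyz
    have s2 : Q (x + (-z) - Q (-z) • y) = 0 :=
      sing_vec h (by rw [polar_neg_right, hxz, neg_zero]) (by rw [polar_neg_right, hyz, neg_zero])
    obtain ⟨a, ha⟩ := hκ _ s1
    obtain ⟨b, hb⟩ := hκ _ s2
    rw [QuadraticMap.map_neg] at hb
    simp only [map_sub, map_add, map_neg, map_smul, hc, hc'] at ha hb
    have e1 : κ z = a • z + (a - c) • x + (Q z * (c' - a)) • y := by
      have : κ z = a • (x + z - Q z • y) - c • x + Q z • c' • y := by rw [← ha]; abel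
      rw [this]; module
    have e2 : κ z = b • z - (b - c) • x - (Q z * (c' - b)) • y := by
      have : κ z = -(b • (x + -z - Q z • y) - c • x + Q z • c' • y) := by rw [← hb]; abel
      rw [this]; module
    have e3 : a • z + (a - c) • x + (Q z * (c' - a)) • y = b • z - (b - c) • x - (Q z * (c' - b)) • y := by
      rw [← e1, e2]
    have f1 := congrArg (polar Q z'') e3
    simp only [polar_add_right, polar_sub_right, polar_smul_right, polar_comm Q z'' z, polar_comm Q z'' x,
      polar_comm Q z'' y, hzz, hxz'', hyz'', smul_eq_mul, mul_one, mul_zero, add_zero, sub_zero] at f1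
    have f2 := congrArg (polar Q y) e3
    simp only [polar_add_right, polar_sub_right, polar_smul_right, hyz, h.pair', h.polar_right,
      smul_eq_mul, mul_one, mul_zero, add_zero, sub_zero, zero_add, zero_sub] at f2
    have f3 := congrArg (polar Q x) e3
    simp only [polar_add_right, polar_sub_right, polar_smul_right, hxz, h.pair, h.polar_left,
      smul_eq_mul, mul_one, mul_zero, add_zero, sub_zero, zero_add, zero_sub] at f3
    have hac : a = c := by
      have : 2 * (a - c) = 0 := by rw [← f1] at f2; linear_combination f2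
      exact sub_eq_zero.1 ((mul_eq_zero.1 this).resolve_left h2)
    have hcc : Q z * (c' - c) = 0 := by
      rw [← f1, hac] at f3
      have : 2 * (Q z * (c' - c)) = 0 := by linear_combination f3
      exact (mul_eq_zero.1 this).resolve_left h2
    refine ⟨?_, fun hne => sub_eq_zero.1 ((mul_eq_zero.1 hcc).resolve_left hne)⟩
    rw [e1, hac, hcc]
    module
  obtain ⟨z, hz1, hz2, hz3⟩ := exists_nonsing_perp hQ hd h
  have hcc : c' = c := (key z hz1 hz2).2 hz3
  refine ⟨c, fun v => ?_⟩
  have h1 := (key (proj Q x y v) (polar_proj_left h v) (polar_proj_right h v)).1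
  have e : v = proj Q x y v + polar Q y v • x + polar Q x v • y := by rw [proj]; abel
  rw [e]
  simp only [map_add, map_smul, h1, hc, hc', hcc]
  module

end Cfsg.Agent.H882.Ten
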