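import Cfsg.Agent.H882.Ten.RadThree
import Cfsg.Agent.H882.Ten.Comm

/-!
# The unipotent radical of the stabiliser of `U ⊗ w` in a proper overgroup

`rad_le`: if `E Q ≰ X` then the elements of `X` in the radical of the stabiliser of `U ⊗ w` are the
`1 ⊗ siegel w x`.
-/

set_option autoImplicit false
set_option linter.unusedSimpArgs false
set_option linter.unusedSectionVars false

namespace Cfsg.Agent.H882.Ten

open QuadraticMap hiding proj
open Cfsg.Agent.LieClassical.OrthCore Cfsg.Agent.LieClassical.OrthTrans Cfsg.Agent.H883.Root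

theorem riesz {F V : Type*} [Field F] [AddCommGroup V] [Module F V] [FiniteDimensional F V]
    {Q : QuadraticForm F V} (hQ : Nondeg Q) (φ : V →ₗ[F] F) : ∃ x, ∀ z, polar Q x z = φ z := by
  have hinj : Function.Injective (polarBilin Q) := by
    intro x y hxy
    rw [← sub_eq_zero]
    refine hQ _ fun z => ?_
    have := LinearMap.congr_fun hxy z
    rw [polarBilin_apply_apply, polarBilin_apply_apply] at this
    rw [polar_sub_left, this, sub_self]
  have hsurj : Function.Surjective (polarBilin Q) := by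
    have hfr : Module.finrank F V = Module.finrank F (V →ₗ[F] F) := by
      rw [Module.finrank_linearMap, Module.finrank_self, mul_one]
    exact (LinearMap.injective_iff_surjective_of_finrank_eq_finrank hfr).1 hinj
  obtain ⟨x, hx⟩ := hsurj φ
  exact ⟨x, fun z => by rw [← polarBilin_apply_apply, hx]⟩

variable {F : Type*} {U : Type*} {W : Type*} {V : Type*} [Field F] [AddCommGroup U] [Module F U]
  [AddCommGroup W] [Module F W] [AddCommGroup V] [Module F V]
  {t : U →ₗ[F] W →ₗ[F] V} {QU : QuadraticForm F U} {QW : QuadraticForm F W} {Q : QuadraticForm F V}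
  {X : Subgroup (V ≃ₗ[F] V)}

namespace TSt

variable (S : TSt t QU QW Q)

include S

theorem isR_mul_inv {w : W} {g g' : V ≃ₗ[F] V} {τ τ' : W →ₗ[F] U →ₗ[F] U} (hgt : IsR t QW w g τ)
    (hgt' : IsR t QW w g' τ') : IsR t QW w (g * g'⁻¹) (τ - τ') := by
  have hi1 : ∀ u, g'⁻¹ (t u w) = t u w := by
    intro u
    have h2 : g'⁻¹ (g' (t u w)) = t u w := LinearEquiv.symm_apply_apply g' _
    rwa [hgt'.1] at h2
  have hi2 : ∀ u z, polar QW w z = 0 → g'⁻¹ (t u z) = t u z - t (τ' z u) w := by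
    intro u z hz
    have h1 : g' (t u z - t (τ' z u) w) = t u z := by
      rw [map_sub, hgt'.2 u z hz, hgt'.1]
      abel
    have h2 : g'⁻¹ (g' (t u z - t (τ' z u) w)) = t u z - t (τ' z u) w := LinearEquiv.symm_apply_apply g' _
    rwa [h1] at h2
  refine ⟨fun u => ?_, fun u z hz => ?_⟩
  · show g (g'⁻¹ (t u w)) = _
    rw [hi1, hgt.1]
  · show g (g'⁻¹ (t u z)) = _
    rw [hi2 u z hz, map_sub, hgt.2 u z hz, hgt.1]
    simp only [LinearMap.sub_apply, map_sub]
    abel

/-- An element of `X` acting trivially on `U ⊗ w^⊥` is in the centre of the radical. -/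
theorem inZ_of_triv (hX : X ≤ O Q) (hQ : Nondeg Q) {w w' : W} (hyp : Hyp QW w w') {g : V ≃ₗ[F] V} (hg : g ∈ X)
    (h : ∀ u z, polar QW w z = 0 → g (t u z) = t u z) :
    ∃ κ : U →ₗ[F] U, (∀ u z, g (t u z) = t u z + polar QW w z • t (κ u) w) := by
  let κ : U →ₗ[F] U := S.cw w' ∘ₗ ((g : V →ₗ[F] V) - LinearMap.id) ∘ₗ t.flip w'
  have hκ : ∀ u, κ u = S.cw w' (g (t u w') - t u w') := fun u => rfl
  have key : ∀ u, g (t u w') - t u w' = t (κ u) w := by
    intro u
    rw [← sub_eq_zero]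
    refine hQ _ fun v => ?_
    have : (polarBilin Q) (g (t u w') - t u w' - t (κ u) w) = 0 := by
      refine ext_t S.ten fun u' z => ?_
      rw [polarBilin_apply_apply, LinearMap.zero_apply, polar_sub_left]
      set β := polar QW w z with hβ
      have hz0 : polar QW w (z - β • w') = 0 := by rw [polar_sub_right, polar_smul_right, hyp.pair, hβ]; simp
      have e0 : t u' z = t u' (z - β • w') + β • t u' w' := by rw [map_sub, map_smul]; abel
      have e1 : polar Q (g (t u w') - t u w') (t u' (z - β • w')) = 0 := by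
        have h1 := polar_map (hX hg) (t u w') (t u' (z - β • w'))
        rw [h _ _ hz0] at h1
        rw [polar_sub_left, h1, sub_self]
      have e2 : polar Q (g (t u w') - t u w') (t u' w') = polar QU (κ u) u' := by
        rw [S.polar_cw, hκ]
      rw [e0, polar_add_right, polar_add_right, e1, polar_smul_right, polar_smul_right, e2, S.pol, S.pol, hz0,
        hyp.pair]
      simp
    exact LinearMap.congr_fun this v
  refine ⟨κ, fun u z => ?_⟩
  set β := polar QW w z with hβ
  have hz0 : polar QW w (z - β • w') = 0 := by rw [polar_sub_right, polar_smul_right, hyp.pair, hβ]; simp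
  have e0 : t u z = t u (z - β • w') + β • t u w' := by rw [map_sub, map_smul]; abel
  rw [e0, map_add, map_smul, h _ _ hz0, ← key u]
  module

theorem tau_scalar_of_sing [FiniteDimensional F U] (hX : Ovg S X)
    (hexc : 4 ≤ Module.finrank F U ∨ ∃ c : F, c ≠ 0 ∧ c * c ≠ 1) {w : W} (hw : QW w = 0) (hw0 : w ≠ 0)
    (hZ : ∀ κ, InZ t QW X w κ → κ = 0) {τ : W →ₗ[F] U →ₗ[F] U} (h : InR t QW X w τ) {y0 : W}
    (hy0 : QW y0 = 0) (hwy0 : polar QW w y0 = 0) : ∃ c : F, ∀ u, τ y0 u = c • u := by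
  by_cases hmul : ∃ c : F, y0 = c • w
  · obtain ⟨c, rfl⟩ := hmul
    obtain ⟨g, hg, hgτ⟩ := h
    refine ⟨0, fun u => ?_⟩
    rw [map_smul, LinearMap.smul_apply, S.tau_self hw hw0 hgτ]
    simp
  push Not at hmul
  obtain ⟨y, hy1, hy2⟩ := exists_sep S.ndW hmul
  have hyp0 : Hyp QW y0 (y + (-QW y) • y0) := by
    refine ⟨hy0, ?_, ?_⟩
    · rw [Q_add, QuadraticMap.map_smul, hy0, polar_smul_right, polar_comm QW y y0, hy2]
      simp
    · rw [polar_add_right, polar_smul_right, polar_self_of_sing hy0, hy2]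
      simp
  set y0' := y + (-QW y) • y0 with hy0'
  have hwy0' : polar QW w y0' = 0 := by
    rw [hy0', polar_add_right, polar_smul_right, hy1, hwy0]; simp
  obtain ⟨w'', hyp1, hw1, hw2⟩ := exists_hyp_perp S.ndW hyp0 hw hw0 (by rw [polar_comm]; exact hwy0)
    (by rw [polar_comm]; exact hwy0')
  obtain ⟨a, c, ⟨a1, a2, a3, -⟩, ⟨c1, c2, c3, -⟩, hac⟩ := exists_perp4 S.ndW hX.hW.dim hyp0 hyp1
    (by rw [polar_comm]; exact hwy0) hw1 (by rw [polar_comm]; exact hwy0') hw2
  obtain ⟨z1, hz1, hz2, hz3, hz4⟩ : ∃ z1, polar QW y0 z1 = 0 ∧ polar QW y0' z1 = 0 ∧ polar QW w z1 = 0 ∧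
      QW z1 ≠ 0 := by
    rcases exists_nonsing hac with h | h | h
    · exact ⟨a, a1, a2, a3, h⟩
    · exact ⟨c, c1, c2, c3, h⟩
    · exact ⟨a + c, by rw [polar_add_right, a1, c1, add_zero], by rw [polar_add_right, a2, c2, add_zero],
        by rw [polar_add_right, a3, c3, add_zero], h⟩
  have hy0w : polar QW y0 w = 0 := by rw [polar_comm]; exact hwy0
  have hy0'w : polar QW y0' w = 0 := by rw [polar_comm]; exact hwy0'
  have hz1w : polar QW z1 w = 0 := by rw [polar_comm]; exact hz3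
  -- first: `y0 ⊗ α₀`
  have hα0 : InR t QW X w ((polarBilin QW y0).smulRight ((-(2 * QW z1)) • τ y0)) := by
    set l := siegel QW y0 z1 hy0 hz1 with hl
    have hlX : Ten.rW S.ten l ∈ X := hX.rW _ (siegel_mem_E hy0 hz1)
    have hlO : l ∈ O QW := siegel_mem_O hy0 hz1
    have hlw : l w = w := by rw [hl, siegel_apply, hy0w, hz1w]; simp
    have h1 : InR t QW X w (τ ∘ₗ (l⁻¹ : W ≃ₗ[F] W).toLinearMap - τ) :=
      S.inR_sub (S.inR_cjW h hlX hlO hlw (fun z => rfl)) h
    have h2 : InR t QW X w ((τ ∘ₗ (l⁻¹ : W ≃ₗ[F] W).toLinearMap - τ) ∘ₗ (l⁻¹ : W ≃ₗ[F] W).toLinearMap -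
        (τ ∘ₗ (l⁻¹ : W ≃ₗ[F] W).toLinearMap - τ)) :=
      S.inR_sub (S.inR_cjW h1 hlX hlO hlw (fun z => rfl)) h1
    have e : (τ ∘ₗ (l⁻¹ : W ≃ₗ[F] W).toLinearMap - τ) ∘ₗ (l⁻¹ : W ≃ₗ[F] W).toLinearMap -
        (τ ∘ₗ (l⁻¹ : W ≃ₗ[F] W).toLinearMap - τ) = (polarBilin QW y0).smulRight ((-(2 * QW z1)) • τ y0) := by
      ext z u
      have e1 : ∀ z, l⁻¹ z = z - polar QW y0 z • z1 + polar QW z1 z • y0 - (QW z1 * polar QW y0 z) • y0 :=
        fun z => siegel_inv_apply hy0 hz1 z
      have e2 : l⁻¹ (l⁻¹ z) - l⁻¹ z - (l⁻¹ z - z) = (-(2 * QW z1) * polar QW y0 z) • y0 := by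
        have f1 : polar QW z1 y0 = 0 := by rw [polar_comm]; exact hz1
        simp only [e1, polar_sub_right, polar_add_right, polar_smul_right, hz1, f1, polar_self_of_sing hy0,
          polar_self' z1, smul_eq_mul]
        module
      have e3 := congrArg (fun z => τ z u) e2
      simp only [map_sub, map_smul, LinearMap.sub_apply, LinearMap.smul_apply] at e3
      simp only [LinearMap.sub_apply, LinearMap.comp_apply, LinearEquiv.coe_coe, LinearMap.smulRight_apply,
        LinearMap.smul_apply, polarBilin_apply_apply]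
      rw [e3]
      module
    rwa [e] at h2
  -- transfer from `y0` to a multiple of `y0'`
  have htr : ∀ β : U →ₗ[F] U, InR t QW X w ((polarBilin QW y0).smulRight β) →
      InR t QW X w ((polarBilin QW (-(QW z1) • y0')).smulRight β) := by
    intro β hβ
    set z := y0 + z1 - QW z1 • y0' with hz
    have hzs : QW z = 0 := sing_vec hyp0 hz1 hz2
    have hzw : polar QW z w = 0 := by
      rw [hz, polar_sub_left, polar_add_left, polar_smul_left, hy0w, hz1w, hy0'w]; simp
    have hzy0 : polar QW z y0 = -(QW z1) := by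
      rw [hz, polar_sub_left, polar_add_left, polar_smul_left, hyp0.polar_left, polar_comm QW z1, hz1, hyp0.pair']
      simp
    have hzy0' : polar QW z y0' = 1 := by
      rw [hz, polar_sub_left, polar_add_left, polar_smul_left, hyp0.polar_right, polar_comm QW z1, hz2, hyp0.pair]
      simp
    have hn : -(QW z1) ≠ 0 := neg_ne_zero.2 hz4
    set x := y0' - (-(QW z1))⁻¹ • y0 with hx
    have hzx : polar QW z x = 0 := by
      rw [hx, polar_sub_right, polar_smul_right, hzy0, hzy0', smul_eq_mul, inv_mul_cancel₀ hn, sub_self]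
    have hxw : polar QW x w = 0 := by
      rw [hx, polar_sub_left, polar_smul_left, hy0w, hy0'w]; simp
    set l := siegel QW z x hzs hzx with hl
    have hlX : Ten.rW S.ten l ∈ X := hX.rW _ (siegel_mem_E hzs hzx)
    have hlO : l ∈ O QW := siegel_mem_O hzs hzx
    have hlw : l w = w := by rw [hl, siegel_apply, hzw, hxw]; simp
    have hly0 : l y0 = -(QW z1) • y0' := by
      have hxy0 : polar QW x y0 = 1 := by
        rw [hx, polar_sub_left, polar_smul_left, hyp0.polar_left, hyp0.pair']; simp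
      have hQx : QW x = - (-(QW z1))⁻¹ := by
        rw [hx, sub_eq_add_neg, ← neg_smul, Q_add, QuadraticMap.map_smul, hyp0.left, hyp0.right,
          polar_smul_right, hyp0.pair']
        simp
      rw [hl, siegel_apply, hzy0, hxy0, hQx, hx, hz]
      have hi : (QW z1)⁻¹ * QW z1 = 1 := inv_mul_cancel₀ hz4
      have hi2 : (-(QW z1))⁻¹ * (-(QW z1)) = 1 := inv_mul_cancel₀ hn
      rw [neg_mul, hi2, smul_sub, smul_smul, mul_inv_cancel₀ hn]
      module
    refine S.inR_cjW hβ hlX hlO hlw fun z' => ?_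
    ext u
    simp only [LinearMap.smulRight_apply, LinearMap.smul_apply, polarBilin_apply_apply]
    rw [← hly0, ← polar_map hlO y0 (l⁻¹ z')]
    have : l (l⁻¹ z') = z' := LinearEquiv.apply_symm_apply l z'
    rw [this]
  have hpy : polar QW y0 (-(QW z1) • y0') ≠ 0 := by
    rw [polar_smul_right, hyp0.pair, smul_eq_mul, mul_one]
    exact neg_ne_zero.2 hz4
  -- the set of operators
  have hsym : ∀ α : U →ₗ[F] U, InR t QW X w ((polarBilin QW y0).smulRight α) →
      ∀ v v', polar QU (α v) v' = polar QU v (α v') := by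
    intro α hα v v'
    have := S.tau_symm hX hw hw0 hZ hα hwy0' v v'
    simpa [hyp0.pair] using this
  have hcjm : ∀ (α : U →ₗ[F] U) (k : U ≃ₗ[F] U), Ten.rU S.ten k ∈ X →
      InR t QW X w ((polarBilin QW y0).smulRight α) → InR t QW X w ((polarBilin QW y0).smulRight (cj k α)) := by
    intro α k hk hα
    refine S.inR_cj hα hk fun z => ?_
    ext u
    simp only [LinearMap.smulRight_apply, LinearMap.smul_apply, cj_apply, map_smul]
  have hsc := scalar_of_commute S.two S.ndU hX.dU hexc hX.sU.choose_spec.choose_spec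
    (fun α => InR t QW X w ((polarBilin QW y0).smulRight α)) hsym
    (by
      intro α hα u x hu hx
      have h1 := S.inR_sub (hcjm α _ (hX.rU _ (siegel_mem_E hu hx)) hα) hα
      have e : (polarBilin QW y0).smulRight (cj (siegel QU u x hu hx) α) - (polarBilin QW y0).smulRight α =
          (polarBilin QW y0).smulRight (cj (siegel QU u x hu hx) α - α) := by
        ext z u
        simp only [LinearMap.smulRight_apply, LinearMap.smul_apply, LinearMap.sub_apply, smul_sub]
      rwa [e] at h1)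
    (by
      intro α hα u x hu hx p
      have h1 := hcjm α _ (hX.rU _ (siegel_mem_E hu hx)) hα
      exact S.tau_commute hX hw hw0 hZ hwy0 (by rw [polar_smul_right, hwy0', smul_zero]) hpy hα (htr _ h1)
        (hsym _ hα) (hsym _ h1) p)
    hα0
  obtain ⟨c, hc⟩ := hsc
  have hn : (-(2 * QW z1)) ≠ 0 := neg_ne_zero.2 (mul_ne_zero S.two hz4)
  refine ⟨(-(2 * QW z1))⁻¹ * c, fun u => ?_⟩
  have h1 := hc u
  rw [LinearMap.smul_apply] at h1
  rw [← smul_smul, ← h1, smul_smul, inv_mul_cancel₀ hn, one_smul]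

/-- **The radical of the stabiliser of `U ⊗ w` in a proper overgroup.** -/
theorem rad_le [FiniteDimensional F U] [FiniteDimensional F W] (hX : Ovg S X) (hPU : PU QU)
    (hexc : 4 ≤ Module.finrank F U ∨ ∃ c : F, c ≠ 0 ∧ c * c ≠ 1) (hne : ¬ E Q ≤ X) {w : W} (hw : QW w = 0)
    (hw0 : w ≠ 0) {g : V ≃ₗ[F] V} (hg : g ∈ X) (h1 : ∀ u, g (t u w) = t u w)
    (h2 : ∀ u z, polar QW w z = 0 → ∃ u', g (t u z) = t u z + t u' w) :
    ∃ (x : W) (hx : polar QW w x = 0), g = Ten.rW S.ten (siegel QW w x hw hx) := by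
  have hZ : ∀ κ, InZ t QW X w κ → κ = 0 := by
    intro κ hκ
    by_contra h0
    exact hne (S.E_le_of_inZ hX hPU hw hw0 hκ h0)
  obtain ⟨w', hyp⟩ := LieClassical.OrthTrans.exists_hyp S.ndW hw hw0
  let τ : W →ₗ[F] U →ₗ[F] U := (t.flip).compr₂ (S.cw w' ∘ₗ ((g : V →ₗ[F] V) - LinearMap.id))
  have hτ : ∀ z u, τ z u = S.cw w' (g (t u z) - t u z) := fun z u => rfl
  have hgτ : IsR t QW w g τ := by
    refine ⟨h1, fun u z hz => ?_⟩
    obtain ⟨u', hu'⟩ := h2 u z hz
    have : τ z u = u' := by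
      rw [hτ, hu', add_sub_cancel_left, S.cw_t, hyp.pair', one_smul]
    rw [this]
    exact hu'
  have hIn : InR t QW X w τ := ⟨g, hg, hgτ⟩
  -- all parameters are scalars
  have hscal : ∀ y, polar QW w y = 0 → ∃ c : F, ∀ u, τ y u = c • u := by
    obtain ⟨z0, z0', hyp2, q1, q2, q3, q4⟩ := hX.hW.exists_hyp2 hyp
    have hperp : ∀ v, polar QW w v = 0 → polar QW w' v = 0 → ∃ c : F, ∀ u, τ v u = c • u := by
      intro v
      refine sing_induction_perp hyp2 q1 q2 q3 q4 (P := fun v => ∃ c : F, ∀ u, τ v u = c • u) ?_ ?_ v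
      · rintro a c _ _ _ _ ⟨c1, h1⟩ ⟨c2, h2⟩
        refine ⟨c1 + c2, fun u => ?_⟩
        rw [map_add, LinearMap.add_apply, h1, h2, add_smul]
      · intro a ha ha1 _
        exact S.tau_scalar_of_sing hX hexc hw hw0 hZ hIn ha ha1
    intro y hy
    have e : y = LieClassical.OrthTrans.proj QW w w' y + polar QW w' y • w := by
      rw [LieClassical.OrthTrans.proj, hy]; module
    obtain ⟨c, hc⟩ := hperp _ (polar_proj_left hyp y) (polar_proj_right hyp y)
    refine ⟨c, fun u => ?_⟩
    rw [e, map_add, map_smul, LinearMap.add_apply, LinearMap.smul_apply, hc, S.tau_self hw hw0 hgτ]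
    simp
  -- the vector `x`
  obtain ⟨u0, u0', hyp0⟩ := hX.sU
  obtain ⟨x, hx⟩ := riesz S.ndW (-(((polarBilin QU).flip u0') ∘ₗ (LinearMap.applyₗ u0) ∘ₗ τ))
  have hx' : ∀ z, polar QW x z = - polar QU (τ z u0) u0' := fun z => hx z
  have hxw : polar QW w x = 0 := by
    rw [polar_comm, hx', S.tau_self hw hw0 hgτ, polar_zero_left, neg_zero]
  have hval : ∀ z, polar QW w z = 0 → ∀ u, τ z u = -(polar QW x z) • u := by
    intro z hz u
    obtain ⟨c, hc⟩ := hscal z hz
    rw [hx', hc, hc, polar_smul_left, hyp0.pair]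
    simp
  refine ⟨x, hxw, ?_⟩
  -- compare
  set g0 := Ten.rW S.ten (siegel QW w x hw hxw) with hg0
  have hg0X : g0 ∈ X := hX.rW _ (siegel_mem_E hw hxw)
  have h3 := S.isR_mul_inv hgτ (S.isR_siegel hw hxw)
  have h4 : ∀ u z, polar QW w z = 0 → (g * g0⁻¹) (t u z) = t u z := by
    intro u z hz
    rw [h3.2 u z hz]
    have : (τ - -(polarBilin QW x).smulRight (LinearMap.id : U →ₗ[F] U)) z u = 0 := by
      simp only [LinearMap.sub_apply, LinearMap.neg_apply, LinearMap.smulRight_apply, LinearMap.smul_apply,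
        LinearMap.id_apply, polarBilin_apply_apply, hval z hz]
      module
    rw [this, map_zero, LinearMap.zero_apply, add_zero]
  have h5 : g * g0⁻¹ ∈ X := X.mul_mem hg (X.inv_mem hg0X)
  obtain ⟨κ, hκ⟩ := S.inZ_of_triv hX.le hX.hG.nondeg hyp h5 h4
  have hκ0 := hZ κ ⟨_, h5, hκ⟩
  have h6 : g * g0⁻¹ = 1 := by
    refine ext_t' S.ten fun u z => ?_
    rw [hκ, hκ0]
    simp
  exact mul_inv_eq_one.1 h6

end TSt

end Cfsg.Agent.H882.Ten
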