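import Cfsg.Agent.H882.Ten.Lem

/-!
# Overgroups containing a root element inside `U ⊗ w`

If `X` contains the root elements of the pairs `(u ⊗ w, y ⊗ w)`, `(u ⊗ w, y' ⊗ w)` with `b(y, y') ≠ 0` then
`E Q ≤ X`.
-/

set_option autoImplicit false

namespace Cfsg.Agent.H882.Ten

open QuadraticMap hiding proj
open Cfsg.Agent.LieClassical.OrthCore Cfsg.Agent.LieClassical.OrthTrans Cfsg.Agent.H883.Root

section gen

variable {F : Type*} {V : Type*} [Field F] [AddCommGroup V] [Module F V] {Q : QuadraticForm F V}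

theorem has_smul_of_sq (h2 : (2 : F) ≠ 0) {X : Subgroup (V ≃ₗ[F] V)} {a b : V}
    (h : ∀ c : F, Has Q X a ((c * c) • b)) (c : F) : Has Q X a (c • b) := by
  have h1 := (h ((c + 1) * 2⁻¹)).sub (h ((c - 1) * 2⁻¹))
  refine h1.congr rfl ?_
  rw [← sub_smul]
  congr 1
  field_simp
  ring

theorem exists_perp_not_mult (hd : 3 ≤ Module.finrank F V) (a z' : V) :
    ∃ z, polar Q a z = 0 ∧ ∀ c : F, z ≠ c • z' := by
  by_contra hcon
  push Not at hcon
  have : Module.Finite F V := Module.finite_of_finrank_pos (by omega)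
  have h1 := LinearMap.finrank_range_add_finrank_ker (polarBilin Q a)
  have h2 : Module.finrank F (LinearMap.range (polarBilin Q a)) ≤ 1 := by
    refine le_trans (Submodule.finrank_le _) ?_
    rw [Module.finrank_self]
  have h3 : LinearMap.ker (polarBilin Q a) ≤ Submodule.span F {z'} := by
    intro z hz
    obtain ⟨c, hc⟩ := hcon z (LinearMap.mem_ker.1 hz)
    rw [hc]
    exact Submodule.smul_mem _ _ (Submodule.mem_span_singleton_self z')
  have h4 := Submodule.finrank_mono h3
  have h5 : Module.finrank F (Submodule.span F {z'}) ≤ 1 := by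
    refine (finrank_span_le_card ({z'} : Set V)).trans ?_
    simp
  omega

end gen

variable {F : Type*} {U : Type*} {W : Type*} {V : Type*} [Field F] [AddCommGroup U] [Module F U]
  [AddCommGroup W] [Module F W] [AddCommGroup V] [Module F V]
  {t : U →ₗ[F] W →ₗ[F] V} {QU : QuadraticForm F U} {QW : QuadraticForm F W} {Q : QuadraticForm F V}
  {X : Subgroup (V ≃ₗ[F] V)}

/-- `X` contains all root elements of pairs in `u ⊗ W`. -/
def AA (Q : QuadraticForm F V) (t : U →ₗ[F] W →ₗ[F] V) (X : Subgroup (V ≃ₗ[F] V)) (u : U) : Prop :=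
  ∀ z1 z2 : W, Has Q X (t u z1) (t u z2)

/-- The hypotheses on an overgroup `X` used below. -/
structure Ovg (S : TSt t QU QW Q) (X : Subgroup (V ≃ₗ[F] V)) : Prop where
  le : X ≤ O Q
  rU : ∀ k ∈ E QU, Ten.rU S.ten k ∈ X
  rW : ∀ l ∈ E QW, Ten.rW S.ten l ∈ X
  hW : Good QW
  hG : Good Q
  dU : 3 ≤ Module.finrank F U
  sU : ∃ x y : U, Hyp QU x y

namespace TSt

variable (S : TSt t QU QW Q)

theorem has_line (hX : Ovg S X) {u y y' : U} {w : W} (hu : QU u = 0) (hw : QW w = 0) (hw0 : w ≠ 0)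
    (hy : polar QU u y = 0) (hy' : polar QU u y' = 0) (hyy : polar QU y' y ≠ 0)
    (h1 : Has Q X (t u w) (t y w)) (h2 : Has Q X (t u w) (t y' w)) (z : W) : Has Q X (t u w) (t u z) := by
  obtain ⟨w0, hw0'⟩ := LieClassical.OrthTrans.exists_hyp S.ndW hw hw0
  refine op_ind hw0' (P := fun z => Has Q X (t u w) (t u z)) ?_ ?_ ?_ z
  · intro a c ha hc
    exact (ha.add hc).congr rfl (by rw [map_add])
  · intro c
    exact (has_self (S.sing_left hu w) c).congr rfl (by rw [map_smul])
  · intro w' hw' hww'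
    have hw'0 : w' ≠ 0 := by
      rintro rfl
      exact hww' (polar_zero_right _ _)
    set d : F := - (polar QU y' y * polar QW w' w) with hd
    have hd0 : d ≠ 0 := neg_ne_zero.2 (mul_ne_zero hyy (by rwa [polar_comm]))
    have key : ∀ c : F, Has Q X (t u w) ((c * c) • (d • t u w')) := by
      intro c
      by_cases hc : c = 0
      · subst hc
        refine (has_zero (S.sing_left hu w)).congr rfl (by simp)
      obtain ⟨l, hl, hlw⟩ := hX.hW.trans_sing hw (x' := c • w') (by rw [QuadraticMap.map_smul, hw', smul_zero])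
        hw0 (smul_ne_zero hc hw'0)
      have h3 := h2.map (hX.le (hX.rW l hl)) (hX.rW l hl)
      rw [rW_apply, rW_apply, hlw] at h3
      have p1 : polar Q (t u (c • w')) (t u w) = 0 := by rw [S.pol, polar_self_of_sing hu, zero_mul]
      have p2 : polar Q (t y' (c • w')) (t u w) = 0 := by rw [S.pol, polar_comm, hy', zero_mul]
      have h4 := h3.comm h1 p1 p2
      refine h4.congr rfl ?_
      have p3 : polar Q (t u (c • w')) (t y w) = 0 := by rw [S.pol, hy, zero_mul]
      rw [p3, S.pol, hd]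
      simp only [map_smul, polar_smul_left, smul_eq_mul]
      module
    have h4 := has_smul_of_sq S.two key d⁻¹
    refine h4.congr rfl ?_
    rw [smul_smul, inv_mul_cancel₀ hd0, one_smul]

theorem AA_of_line (hX : Ovg S X) {u : U} {w : W} (hu : QU u = 0) (hw : QW w = 0) (hw0 : w ≠ 0)
    (h : ∀ z, Has Q X (t u w) (t u z)) : AA Q t X u := by
  have h1 : ∀ w1, QW w1 = 0 → ∀ z, Has Q X (t u w1) (t u z) := by
    intro w1 hw1 z
    by_cases h0 : w1 = 0
    · subst h0
      rw [map_zero]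
      exact has_zero_left _
    obtain ⟨l, hl, hlw⟩ := hX.hW.trans_sing hw hw1 hw0 h0
    have h2 := (h (l.symm z)).map (hX.le (hX.rW l hl)) (hX.rW l hl)
    rwa [rW_apply, rW_apply, hlw, LinearEquiv.apply_symm_apply] at h2
  intro z1 z2
  obtain ⟨x0, y0, h0⟩ := hX.hW.exists_hyp
  refine sing_induction h0 (P := fun z2 => Has Q X (t u z1) (t u z2)) ?_ ?_ z2
  · intro a c ha hc
    exact (ha.add hc).congr rfl (by rw [map_add])
  · intro a ha
    have h2 := ((h1 a ha z1).swap (S.sing_left hu z1)).neg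
    rwa [neg_neg] at h2

theorem AA_of_nonperp (hX : Ovg S X) {u u' : U} (hu : QU u = 0) (hu' : QU u' = 0) (huu' : polar QU u u' ≠ 0)
    (h : AA Q t X u) : AA Q t X u' := by
  have hyp : Hyp QU u ((polar QU u u')⁻¹ • u') := by
    refine ⟨hu, by rw [QuadraticMap.map_smul, hu', smul_zero], ?_⟩
    rw [polar_smul_right, smul_eq_mul, inv_mul_cancel₀ huu']
  obtain ⟨z, hz, hz1, hz2⟩ := exists_third S.ndU hX.dU hyp
  rw [polar_smul_right, smul_eq_mul] at hz2
  have hz3 : polar QU z u' ≠ 0 := right_ne_zero_of_mul hz2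
  have hy1 : Hyp QU z ((polar QU z u)⁻¹ • u) :=
    ⟨hz, by rw [QuadraticMap.map_smul, hu, smul_zero], by rw [polar_smul_right, smul_eq_mul, inv_mul_cancel₀ hz1]⟩
  have hy2 : Hyp QU z ((polar QU z u')⁻¹ • u') :=
    ⟨hz, by rw [QuadraticMap.map_smul, hu', smul_zero], by rw [polar_smul_right, smul_eq_mul, inv_mul_cancel₀ hz3]⟩
  obtain ⟨g, hg, -, hgu⟩ := siegel_partner hy1 hy2
  have hgu' : g u = (polar QU z u * (polar QU z u')⁻¹) • u' := by
    have : u = (polar QU z u) • ((polar QU z u)⁻¹ • u) := by rw [smul_smul, mul_inv_cancel₀ hz1, one_smul]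
    conv_lhs => rw [this]
    rw [map_smul, hgu, smul_smul]
  set γ := polar QU z u * (polar QU z u')⁻¹ with hγ
  have hγ0 : γ ≠ 0 := mul_ne_zero hz1 (inv_ne_zero hz3)
  intro z1 z2
  have h1 := (h (γ⁻¹ • z1) (γ⁻¹ • z2)).map (hX.le (hX.rU g hg)) (hX.rU g hg)
  rw [rU_apply, rU_apply, hgu'] at h1
  refine h1.congr ?_ ?_
  · rw [map_smul, map_smul, LinearMap.smul_apply, smul_smul, inv_mul_cancel₀ hγ0, one_smul]
  · rw [map_smul, map_smul, LinearMap.smul_apply, smul_smul, inv_mul_cancel₀ hγ0, one_smul]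

theorem has_opp (hX : Ovg S X) {u u' : U} (hu : QU u = 0) (hu' : QU u' = 0) (huu' : polar QU u u' ≠ 0)
    (h : AA Q t X u) (h' : AA Q t X u') {z1 z' : W} (hz : polar QW z1 z' = 0) :
    Has Q X (t u z1) (t u' z') := by
  have key : ∀ z', polar QW z1 z' = 0 → Has Q X (t u z1) (polar QU u' u • t u' z') := by
    intro z' hz
    by_cases hz' : z' = 0
    · subst hz'
      rw [map_zero, smul_zero]
      exact has_zero (S.sing_left hu z1)
    obtain ⟨z1', h1, h2⟩ := exists_perp_not_mult (Q := QW) (by have := hX.hW.dim; omega) z1 z'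
    obtain ⟨z2, h3, h4⟩ := exists_sep S.ndW h2
    have h5 := (h' z1' z').comm (h z1 z2) (by rw [S.pol, polar_comm QW, h1, mul_zero])
      (by rw [S.pol, polar_comm QW, hz, mul_zero])
    refine h5.congr rfl ?_
    have e1 : polar Q (t u' z1') (t u z2) = polar QU u' u := by rw [S.pol, h4, mul_one]
    have e2 : polar Q (t u' z') (t u z2) = 0 := by rw [S.pol, h3, mul_zero]
    have e3 : Q (t u' z') = 0 := S.sing_left hu' z'
    rw [e1, e2, e3]
    module
  have huu'' : polar QU u' u ≠ 0 := by rwa [polar_comm]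
  have h1 := key ((polar QU u' u)⁻¹ • z') (by rw [polar_smul_right, hz, smul_zero])
  refine h1.congr rfl ?_
  rw [map_smul, smul_smul, mul_inv_cancel₀ huu'', one_smul]

theorem has_perpW (hX : Ovg S X) {u u' : U} (hy : Hyp QU u u')
    (h : AA Q t X u) {z1 z' : W} (hz : polar QW z1 z' = 0) (y : U) :
    Has Q X (t u z1) (t y z') := by
  refine op_ind hy (P := fun y => Has Q X (t u z1) (t y z')) ?_ ?_ ?_ y
  · intro a c ha hc
    exact (ha.add hc).congr rfl (by rw [map_add]; rfl)
  · intro c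
    refine (h z1 (c • z')).congr rfl ?_
    rw [map_smul, map_smul]; rfl
  · intro a ha hua
    exact S.has_opp hX hy.left ha hua h (S.AA_of_nonperp hX hy.left ha hua h) hz

theorem has_perpU (hX : Ovg S X) {u u' : U} (hyp : Hyp QU u u')
    (h : AA Q t X u) {y : U} (hy : polar QU u y = 0) (z1 z' : W) :
    Has Q X (t u z1) (t y z') := by
  obtain ⟨z2, h1, h2⟩ := exists_perp_not_mult (Q := QW) (by have := hX.hW.dim; omega) z' z1
  obtain ⟨z3, h3, h4⟩ := exists_sep S.ndW h2
  have h5 := (S.has_perpW hX hyp h (z1 := z2) (z' := z') (by rw [polar_comm]; exact h1) y).comm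
    (S.has_perpW hX hyp h (z1 := z1) (z' := z3) h3 u')
    (by rw [S.pol, hyp.polar_left, zero_mul]) (by rw [S.pol, polar_comm, hy, zero_mul])
  have e1 : polar Q (t u z2) (t u' z3) = 1 := by rw [S.pol, hyp.pair, h4, one_mul]
  rw [e1] at h5
  have h6 := h z1 ((polar Q (t y z') (t u' z3) + Q (t y z') * 1) • z2)
  refine (h5.add h6).congr rfl ?_
  rw [map_smul]
  module

theorem full_of_AA (hX : Ovg S X) {u u' : U} (hyp : Hyp QU u u')
    (h : AA Q t X u) (z1 : W) (hz1 : z1 ≠ 0) : Full Q X (t u z1) := by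
  obtain ⟨z1', hz1'⟩ := S.ndW.exists_polar_eq hz1 1
  have key : ∀ v : V, ∃ c : F, Has Q X (t u z1) (v - c • t u' z1') := by
    intro v
    induction v using S.ten.inductionOn with
    | zero => exact ⟨0, (has_zero (S.sing_left hyp.left z1)).congr rfl (by simp)⟩
    | tmul y z =>
      set β := polar QU u y with hβ
      set γ := polar QW z1 z with hγ
      have h1 := S.has_perpU hX hyp h (y := y - β • u') (by
        rw [polar_sub_right, polar_smul_right, hyp.pair, hβ]; simp) z1 z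
      have h2 := S.has_perpW hX hyp h (z1 := z1) (z' := β • (z - γ • z1')) (by
        rw [polar_smul_right, polar_sub_right, polar_smul_right, hz1', hγ]; simp) u'
      refine ⟨β * γ, (h1.add h2).congr rfl ?_⟩
      simp only [map_sub, map_smul, LinearMap.sub_apply, LinearMap.smul_apply]
      module
    | add x y hx hy =>
      obtain ⟨c, hc⟩ := hx
      obtain ⟨d, hd⟩ := hy
      exact ⟨c + d, (hc.add hd).congr rfl (by module)⟩
  refine ⟨S.sing_left hyp.left z1, fun v hv => ?_⟩
  obtain ⟨c, hc⟩ := key v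
  have h1 := hc.perp
  rw [polar_sub_right, hv, polar_smul_right, S.pol, hyp.pair, hz1'] at h1
  have hc0 : c = 0 := by simpa using h1
  subst hc0
  exact hc.congr rfl (by simp)

theorem E_le_of_AA (hX : Ovg S X) {u : U} (hu : QU u = 0) (hu0 : u ≠ 0) (h : AA Q t X u) : E Q ≤ X := by
  obtain ⟨u', hyp⟩ := LieClassical.OrthTrans.exists_hyp S.ndU hu hu0
  obtain ⟨x, hx0, -⟩ := hX.hW.sing
  obtain ⟨x', hx'⟩ := S.ndW.exists_polar_eq hx0 1
  have hx'0 : x' ≠ 0 := by
    rintro rfl
    rw [polar_zero_right] at hx'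
    exact zero_ne_one hx'
  have h1 := S.full_of_AA hX hyp h x hx0
  have h2 := S.full_of_AA hX hyp.symm
    (S.AA_of_nonperp hX hyp.left hyp.right (by rw [hyp.pair]; exact one_ne_zero) h) x' hx'0
  exact E_le_of_full_pair hX.hG h1 h2 (by rw [S.pol, hyp.pair, hx']; simp)

/-- **Case 1, final form.** -/
theorem E_le_of_has (hX : Ovg S X) {u y y' : U} {w : W} (hu : QU u = 0) (hu0 : u ≠ 0) (hw : QW w = 0)
    (hw0 : w ≠ 0) (hy : polar QU u y = 0) (hy' : polar QU u y' = 0) (hyy : polar QU y' y ≠ 0)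
    (h1 : Has Q X (t u w) (t y w)) (h2 : Has Q X (t u w) (t y' w)) : E Q ≤ X :=
  S.E_le_of_AA hX hu hu0 (S.AA_of_line hX hu hw hw0 (S.has_line hX hu hw hw0 hy hy' hyy h1 h2))

end TSt

end Cfsg.Agent.H882.Ten
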