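import Cfsg.Agent.H882.Ten.RadTwo

/-!
# The unipotent radical of the stabiliser of `U ⊗ w`: commutators

`IsR t QW w g τ`: `g` fixes `U ⊗ w` pointwise and `g (u ⊗ z) = u ⊗ z + τ z u ⊗ w` for `z ⊥ w`.
-/

set_option autoImplicit false
set_option linter.unusedSimpArgs false
set_option linter.unusedSectionVars false

namespace Cfsg.Agent.H882.Ten

open QuadraticMap hiding proj
open Cfsg.Agent.LieClassical.OrthCore Cfsg.Agent.LieClassical.OrthTrans Cfsg.Agent.H883.Root

variable {F : Type*} {U : Type*} {W : Type*} {V : Type*} [Field F] [AddCommGroup U] [Module F U]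
  [AddCommGroup W] [Module F W] [AddCommGroup V] [Module F V]
  {t : U →ₗ[F] W →ₗ[F] V} {QU : QuadraticForm F U} {QW : QuadraticForm F W} {Q : QuadraticForm F V}
  {X : Subgroup (V ≃ₗ[F] V)}

/-- `g` is in the unipotent radical of the stabiliser of `U ⊗ w`, with parameter `τ`. -/
def IsR (t : U →ₗ[F] W →ₗ[F] V) (QW : QuadraticForm F W) (w : W) (g : V ≃ₗ[F] V) (τ : W →ₗ[F] U →ₗ[F] U) : Prop :=
  (∀ u, g (t u w) = t u w) ∧ ∀ u z, polar QW w z = 0 → g (t u z) = t u z + t (τ z u) w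

/-- the same, existence in `X` -/
def InR (t : U →ₗ[F] W →ₗ[F] V) (QW : QuadraticForm F W) (X : Subgroup (V ≃ₗ[F] V)) (w : W)
    (τ : W →ₗ[F] U →ₗ[F] U) : Prop := ∃ g ∈ X, IsR t QW w g τ

namespace TSt

variable (S : TSt t QU QW Q)

include S

/-- `τ` as a map on `V` -/
noncomputable def hat (τ : W →ₗ[F] U →ₗ[F] U) : V →ₗ[F] U := S.ten.lift τ.flip

theorem hat_t (τ : W →ₗ[F] U →ₗ[F] U) (u : U) (z : W) : S.hat τ (t u z) = τ z u := by
  rw [hat, S.ten.lift_eq]; rfl

theorem tau_self {w : W} (hw : QW w = 0) (hw0 : w ≠ 0) {g : V ≃ₗ[F] V} {τ : W →ₗ[F] U →ₗ[F] U}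
    (h : IsR t QW w g τ) (u : U) : τ w u = 0 := by
  have h1 := h.2 u w (polar_self_of_sing hw)
  rw [h.1] at h1
  exact eq_zero_of_t S.ten (left_eq_add.1 h1) hw0

/-- the action on `U ⊗ w^⊥` -/
theorem isR_apply {w w' : W} (hyp : Hyp QW w w') {g : V ≃ₗ[F] V} {τ : W →ₗ[F] U →ₗ[F] U}
    (h : IsR t QW w g τ) {v : V} (hv : S.cw w v = 0) : g v = v + t (S.hat τ v) w := by
  have hw0 : w ≠ 0 := hyp.left_ne
  -- the identity `g v = v + t (hat v) w + (g - 1 - ..) (t (cw w v) w')`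
  have key : (g : V →ₗ[F] V) = LinearMap.id + (t.flip w) ∘ₗ S.hat τ +
      (((g : V →ₗ[F] V) - LinearMap.id) ∘ₗ t.flip w' - (t.flip w) ∘ₗ S.hat τ ∘ₗ t.flip w') ∘ₗ S.cw w := by
    refine ext_t S.ten fun u z => ?_
    simp only [LinearMap.add_apply, LinearMap.sub_apply, LinearMap.comp_apply, LinearMap.id_apply,
      LinearMap.flip_apply, S.cw_t, S.hat_t, LinearEquiv.coe_coe]
    set β := polar QW w z with hβ
    have h1 := h.2 u (z - β • w') (by rw [polar_sub_right, polar_smul_right, hyp.pair, hβ]; simp)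
    simp only [map_sub, map_smul, LinearMap.sub_apply, LinearMap.smul_apply] at h1 ⊢
    have h2 : g (t u z) = β • g (t u w') + (t u z - β • t u w' + (t (τ z u) w - β • t (τ w' u) w)) := by
      rw [← h1]; abel
    rw [h2]
    module
  have h1 := LinearMap.congr_fun key v
  simp only [LinearMap.add_apply, LinearMap.sub_apply, LinearMap.comp_apply, LinearMap.id_apply,
    LinearMap.flip_apply, hv, map_zero, LinearEquiv.coe_coe, sub_zero, add_zero] at h1
  rw [h1]

theorem cw_s_zero (hX : X ≤ O Q) {w w' : W} {g : V ≃ₗ[F] V} (hg : g ∈ X)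
    {τ : W →ₗ[F] U →ₗ[F] U} (h : IsR t QW w g τ) (u : U) : S.cw w (g (t u w') - t u w') = 0 := by
  rw [S.cw_eq_zero_iff]
  intro u'
  have h1 := polar_map (hX hg) (t u w') (t u' w)
  rw [h.1] at h1
  rw [polar_sub_left, h1, sub_self]

/-- the adjoint relation -/
theorem cw_s (hX : X ≤ O Q) {w w' : W} (hyp : Hyp QW w w') {g : V ≃ₗ[F] V} (hg : g ∈ X)
    {τ : W →ₗ[F] U →ₗ[F] U} (h : IsR t QW w g τ) {z : W} (hz : polar QW w z = 0) (u u' : U) :
    polar QU (S.cw z (g (t u w') - t u w')) u' = - polar QU u (τ z u') := by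
  rw [← S.polar_cw]
  have h1 : t u' z = g (t u' z) - t (τ z u') w := by rw [h.2 u' z hz]; abel
  have h2 := polar_map (hX hg) (t u w') (t u' z)
  have h3 := polar_map (hX hg) (t u w') (t (τ z u') w)
  rw [h.1, S.pol, hyp.pair', mul_one] at h3
  have h4 : polar Q (g (t u w')) (t u' z) = polar Q (t u w') (t u' z) - polar QU u (τ z u') := by
    rw [h1, polar_sub_right, h2, h3, ← h1]
  rw [polar_sub_left, h4]
  ring

/-- **Commutator of two elements of the radical.** -/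
theorem rad_comm (hX : X ≤ O Q) {w w' : W} (hyp : Hyp QW w w') {g g' : V ≃ₗ[F] V} (hg : g ∈ X) (hg' : g' ∈ X)
    {τ τ' : W →ₗ[F] U →ₗ[F] U} (h : IsR t QW w g τ) (h' : IsR t QW w g' τ') :
    ∃ κ : U →ₗ[F] U, InZ t QW X w κ ∧
      ∀ u, κ u = S.hat τ (g' (t u w') - t u w') - S.hat τ' (g (t u w') - t u w') := by
  let κ : U →ₗ[F] U := S.hat τ ∘ₗ ((g' : V →ₗ[F] V) - LinearMap.id) ∘ₗ t.flip w' -
    S.hat τ' ∘ₗ ((g : V →ₗ[F] V) - LinearMap.id) ∘ₗ t.flip w'
  have hκ : ∀ u, κ u = S.hat τ (g' (t u w') - t u w') - S.hat τ' (g (t u w') - t u w') := fun u => rfl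
  refine ⟨κ, ⟨(g * g') * (g' * g)⁻¹, X.mul_mem (X.mul_mem hg hg') (X.inv_mem (X.mul_mem hg' hg)), ?_⟩, hκ⟩
  -- `g g' v = g' g v + t (κ (cw w v)) w`
  have key : ∀ v, g (g' v) = g' (g v) + t (κ (S.cw w v)) w := by
    have : (g : V →ₗ[F] V) ∘ₗ (g' : V →ₗ[F] V) = (g' : V →ₗ[F] V) ∘ₗ (g : V →ₗ[F] V) +
        t.flip w ∘ₗ κ ∘ₗ S.cw w := by
      refine ext_t S.ten fun u z => ?_
      show g (g' (t u z)) = g' (g (t u z)) + t (κ (S.cw w (t u z))) w
      rw [S.cw_t]
      set β := polar QW w z with hβ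
      have hz0 : polar QW w (z - β • w') = 0 := by rw [polar_sub_right, polar_smul_right, hyp.pair, hβ]; simp
      have e1 : g (g' (t u (z - β • w'))) = g' (g (t u (z - β • w'))) := by
        rw [h'.2 u _ hz0, h.2 u _ hz0, map_add, map_add, h.2 u _ hz0, h'.2 u _ hz0, h.1, h'.1]
        abel
      have e2 : g (g' (t u w')) = g' (g (t u w')) + t (κ u) w := by
        have f1 : g' (t u w') = t u w' + (g' (t u w') - t u w') := by abel
        have f2 : g (t u w') = t u w' + (g (t u w') - t u w') := by abel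
        have f3 := S.isR_apply hyp h (S.cw_s_zero hX (w' := w') hg' h' u)
        have f4 := S.isR_apply hyp h' (S.cw_s_zero hX (w' := w') hg h u)
        rw [f1, map_add, f3]
        conv_rhs => rw [f2, map_add, f4]
        rw [hκ]
        simp only [map_sub, LinearMap.sub_apply]
        abel
      have e3 : t u z = t u (z - β • w') + β • t u w' := by rw [map_sub, map_smul]; abel
      rw [e3]
      simp only [map_add g, map_add g', map_smul g, map_smul g', e1, e2, map_smul, LinearMap.smul_apply]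
      module
    intro v
    exact LinearMap.congr_fun this v
  intro u z
  set N : V ≃ₗ[F] V := g' * g with hN
  have hNX : N ∈ X := X.mul_mem hg' hg
  have h1 := key (N⁻¹ (t u z))
  have h2 : g' (g (N⁻¹ (t u z))) = t u z := LinearEquiv.apply_symm_apply N (t u z)
  rw [h2] at h1
  show g (g' (N⁻¹ (t u z))) = _
  rw [h1]
  have h3 : S.cw w (N⁻¹ (t u z)) = polar QW w z • u := by
    refine S.eq_of_polar fun y => ?_
    rw [← S.polar_cw]
    have h4 := polar_map (hX hNX) (N⁻¹ (t u z)) (t y w)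
    have h5 : N (N⁻¹ (t u z)) = t u z := LinearEquiv.apply_symm_apply N (t u z)
    have h6 : N (t y w) = t y w := by
      show g' (g (t y w)) = _
      rw [h.1, h'.1]
    rw [h5, h6] at h4
    rw [← h4, S.pol, polar_smul_left, smul_eq_mul, polar_comm QW]
    ring
  rw [h3, map_smul, map_smul]
  rfl

/-- elements of `E_w` -/
theorem isR_siegel {w x : W} (hw : QW w = 0) (hx : polar QW w x = 0) :
    IsR t QW w (rW S.ten (siegel QW w x hw hx)) (-(polarBilin QW x).smulRight (LinearMap.id : U →ₗ[F] U)) := by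
  constructor
  · intro u
    rw [rW_apply, siegel_apply, polar_self_of_sing hw, polar_comm QW x w, hx]
    simp
  · intro u z hz
    rw [rW_apply, siegel_apply, hz]
    simp only [zero_smul, add_zero, mul_zero, sub_zero, map_sub, map_smul, LinearMap.neg_apply,
      LinearMap.smulRight_apply, polarBilin_apply_apply, LinearMap.smul_apply, LinearMap.id_apply, map_neg]
    module

/-- **All parameters are self-adjoint** if the centre meets `X` trivially. -/
theorem tau_symm (hX : Ovg S X) {w : W} (hw : QW w = 0) (hw0 : w ≠ 0)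
    (hZ : ∀ κ, InZ t QW X w κ → κ = 0) {τ : W →ₗ[F] U →ₗ[F] U} (h : InR t QW X w τ) {x : W}
    (hx : polar QW w x = 0) (u u' : U) : polar QU (τ x u) u' = polar QU u (τ x u') := by
  obtain ⟨g, hg, hgτ⟩ := h
  obtain ⟨w', hyp⟩ := LieClassical.OrthTrans.exists_hyp S.ndW hw hw0
  obtain ⟨κ, hκ, hκ'⟩ := S.rad_comm hX.le hyp hg (hX.rW _ (siegel_mem_E hw hx)) hgτ (S.isR_siegel hw hx)
  have h0 := hZ κ hκ
  have h1 := hκ' u
  rw [h0, LinearMap.zero_apply, rW_apply] at h1
  have h2 : t u (siegel QW w x hw hx w') - t u w' = t u (x - (polar QW x w' + QW x) • w) := by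
    rw [← map_sub]
    congr 1
    rw [siegel_apply, hyp.pair]
    module
  rw [h2, S.hat_t] at h1
  have h3 : ∀ v, S.hat (-(polarBilin QW x).smulRight (LinearMap.id : U →ₗ[F] U)) v = - S.cw x v := by
    have : S.hat (-(polarBilin QW x).smulRight (LinearMap.id : U →ₗ[F] U)) = - S.cw x := by
      refine ext_t S.ten fun u z => ?_
      rw [S.hat_t, LinearMap.neg_apply, LinearMap.neg_apply, LinearMap.neg_apply, S.cw_t]
      rfl
    intro v
    rw [this]; rfl
  rw [h3] at h1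
  have h4 : τ (x - (polar QW x w' + QW x) • w) u = τ x u := by
    rw [map_sub, map_smul, LinearMap.sub_apply, LinearMap.smul_apply, S.tau_self hw hw0 hgτ]
    simp
  rw [h4] at h1
  have h5 := S.cw_s hX.le hyp hg hgτ hx u u'
  have h6 : τ x u = - S.cw x (g (t u w') - t u w') := by
    rw [eq_neg_iff_add_eq_zero]
    rw [sub_neg_eq_add] at h1
    exact h1.symm
  rw [h6, polar_neg_left, h5, neg_neg]

/-- **Commuting parameters.** -/
theorem tau_commute (hX : Ovg S X) {w : W} (hw : QW w = 0) (hw0 : w ≠ 0)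
    (hZ : ∀ κ, InZ t QW X w κ → κ = 0) {α β : U →ₗ[F] U} {y0 y1 : W} (hy0 : polar QW w y0 = 0)
    (hy1 : polar QW w y1 = 0) (hy : polar QW y0 y1 ≠ 0)
    (h : InR t QW X w ((polarBilin QW y0).smulRight α)) (h' : InR t QW X w ((polarBilin QW y1).smulRight β))
    (hα : ∀ u u', polar QU (α u) u' = polar QU u (α u')) (hβ : ∀ u u', polar QU (β u) u' = polar QU u (β u'))
    (u : U) : α (β u) = β (α u) := by
  obtain ⟨g, hg, hgτ⟩ := h
  obtain ⟨g', hg', hgτ'⟩ := h'
  obtain ⟨w', hyp⟩ := LieClassical.OrthTrans.exists_hyp S.ndW hw hw0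
  obtain ⟨κ, hκ, hκ'⟩ := S.rad_comm hX.le hyp hg hg' hgτ hgτ'
  have h0 := hZ κ hκ
  have h1 := hκ' u
  have h3 : ∀ (γ : U →ₗ[F] U) (x : W) v, S.hat ((polarBilin QW x).smulRight γ) v = γ (S.cw x v) := by
    intro γ x
    have : S.hat ((polarBilin QW x).smulRight γ) = γ ∘ₗ S.cw x := by
      refine ext_t S.ten fun u z => ?_
      rw [S.hat_t, LinearMap.comp_apply, S.cw_t, map_smul]
      rfl
    intro v
    rw [this]; rfl
  rw [h0, LinearMap.zero_apply, h3, h3] at h1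
  have h4 : S.cw y0 (g' (t u w') - t u w') = - (polar QW y0 y1 • β u) := by
    refine S.eq_of_polar fun y => ?_
    rw [S.cw_s hX.le hyp hg' hgτ' hy0 u y, LinearMap.smulRight_apply, LinearMap.smul_apply, polar_smul_right,
      polar_neg_left, polar_smul_left, hβ, polarBilin_apply_apply, polar_comm QW y1 y0]
  have h5 : S.cw y1 (g (t u w') - t u w') = - (polar QW y0 y1 • α u) := by
    refine S.eq_of_polar fun y => ?_
    rw [S.cw_s hX.le hyp hg hgτ hy1 u y, LinearMap.smulRight_apply, LinearMap.smul_apply, polar_smul_right,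
      polar_neg_left, polar_smul_left, hα, polarBilin_apply_apply]
  rw [h4, h5, map_neg, map_neg, map_smul, map_smul] at h1
  have h6 : polar QW y0 y1 • (α (β u) - β (α u)) = 0 := by
    rw [smul_sub]
    have : polar QW y0 y1 • α (β u) - polar QW y0 y1 • β (α u) =
      -(-(polar QW y0 y1 • α (β u)) - -(polar QW y0 y1 • β (α u))) := by abel
    rw [this, ← h1, neg_zero]
  exact sub_eq_zero.1 ((smul_eq_zero.1 h6).resolve_left hy)

/-! ### closure properties -/

theorem inR_sub {w : W} {τ τ' : W →ₗ[F] U →ₗ[F] U} (h : InR t QW X w τ)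
    (h' : InR t QW X w τ') : InR t QW X w (τ - τ') := by
  obtain ⟨g, hg, hgt⟩ := h
  obtain ⟨g', hg', hgt'⟩ := h'
  have hi1 : ∀ u, g'⁻¹ (t u w) = t u w := by
    intro u
    have h2 : g'⁻¹ (g' (t u w)) = t u w := LinearEquiv.symm_apply_apply g' _
    rwa [hgt'.1] at h2
  have hi2 : ∀ u z, polar QW w z = 0 → g'⁻¹ (t u z) = t u z - t (τ' z u) w := by
    intro u z hz
    have h1 : g' (t u z - t (τ' z u) w) = t u z := by
      rw [map_sub, hgt'.2 u z hz, hgt'.1]
      abel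
    have h2 : g'⁻¹ (g' (t u z - t (τ' z u) w)) = t u z - t (τ' z u) w := LinearEquiv.symm_apply_apply g' _
    rwa [h1] at h2
  refine ⟨g * g'⁻¹, X.mul_mem hg (X.inv_mem hg'), fun u => ?_, fun u z hz => ?_⟩
  · show g (g'⁻¹ (t u w)) = _
    rw [hi1, hgt.1]
  · show g (g'⁻¹ (t u z)) = _
    rw [hi2 u z hz, map_sub, hgt.2 u z hz, hgt.1]
    simp only [LinearMap.sub_apply, map_sub]
    abel

theorem inR_cj {w : W} {τ : W →ₗ[F] U →ₗ[F] U} (h : InR t QW X w τ) {k : U ≃ₗ[F] U} (hk : rU S.ten k ∈ X)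
    {τ' : W →ₗ[F] U →ₗ[F] U} (hτ' : ∀ z, τ' z = cj k (τ z)) : InR t QW X w τ' := by
  obtain ⟨g, hg, hgt⟩ := h
  have hi : ∀ u z, (rU S.ten k)⁻¹ (t u z) = t (k⁻¹ u) z := fun u z => by rw [← map_inv, rU_apply]
  have h2 : ∀ u, k (k⁻¹ u) = u := fun u => LinearEquiv.apply_symm_apply k u
  refine ⟨rU S.ten k * g * (rU S.ten k)⁻¹, X.mul_mem (X.mul_mem hk hg) (X.inv_mem hk), fun u => ?_,
    fun u z hz => ?_⟩
  · show rU S.ten k (g ((rU S.ten k)⁻¹ (t u w))) = _
    rw [hi, hgt.1, rU_apply, h2]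
  · show rU S.ten k (g ((rU S.ten k)⁻¹ (t u z))) = _
    rw [hi, hgt.2 _ z hz, map_add, rU_apply, rU_apply, h2, hτ', cj_apply]

theorem inR_cjW {w : W} {τ : W →ₗ[F] U →ₗ[F] U} (h : InR t QW X w τ) {l : W ≃ₗ[F] W} (hl : rW S.ten l ∈ X)
    (hlO : l ∈ O QW) (hlw : l w = w) {τ' : W →ₗ[F] U →ₗ[F] U} (hτ' : ∀ z, τ' z = τ (l⁻¹ z)) :
    InR t QW X w τ' := by
  obtain ⟨g, hg, hgt⟩ := h
  have hi : ∀ u z, (rW S.ten l)⁻¹ (t u z) = t u (l⁻¹ z) := fun u z => by rw [← map_inv, rW_apply]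
  have h2 : ∀ u, l (l⁻¹ u) = u := fun u => LinearEquiv.apply_symm_apply l u
  have h3 : l⁻¹ w = w := by
    have : l⁻¹ (l w) = w := LinearEquiv.symm_apply_apply l w
    rwa [hlw] at this
  refine ⟨rW S.ten l * g * (rW S.ten l)⁻¹, X.mul_mem (X.mul_mem hl hg) (X.inv_mem hl), fun u => ?_,
    fun u z hz => ?_⟩
  · show rW S.ten l (g ((rW S.ten l)⁻¹ (t u w))) = _
    rw [hi, h3, hgt.1, rW_apply, hlw]
  · have hz' : polar QW w (l⁻¹ z) = 0 := by
      rw [← polar_map hlO, h2, hlw]; exact hz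
    show rW S.ten l (g ((rW S.ten l)⁻¹ (t u z))) = _
    rw [hi, hgt.2 _ _ hz', map_add, rW_apply, rW_apply, h2, hlw, hτ']

end TSt

end Cfsg.Agent.H882.Ten
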