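import Cfsg.Agent.H882.Ten.RadOne

/-!
# The centre of the unipotent radical of the stabiliser of `U ⊗ w`

`InZ S X w κ`: `X` contains `1 + κ ⊗ (w w*)`, `κ` a skew operator of `U`. If `κ ≠ 0` then `E Q ≤ X`.
-/

set_option autoImplicit false
set_option linter.unusedSimpArgs false
set_option linter.unusedSectionVars false

namespace Cfsg.Agent.H882.Ten

open QuadraticMap hiding proj
open Cfsg.Agent.LieClassical.OrthCore Cfsg.Agent.LieClassical.OrthTrans Cfsg.Agent.H883.Root

section kap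

variable {F : Type*} {U : Type*} [Field F] [AddCommGroup U] [Module F U] {QU : QuadraticForm F U}

/-- conjugate of an operator -/
def cj (k : U ≃ₗ[F] U) (κ : U →ₗ[F] U) : U →ₗ[F] U := k.toLinearMap ∘ₗ κ ∘ₗ (k⁻¹).toLinearMap

theorem cj_apply (k : U ≃ₗ[F] U) (κ : U →ₗ[F] U) (v : U) : cj k κ v = k (κ (k⁻¹ v)) := rfl

theorem siegel_inv_apply {u x : U} (hu : QU u = 0) (hx : polar QU u x = 0) (v : U) :
    (siegel QU u x hu hx)⁻¹ v = v - polar QU u v • x + polar QU x v • u - (QU x * polar QU u v) • u := by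
  rw [siegel_inv hu hx (by rw [polar_neg_right, hx, neg_zero]), siegel_apply, QuadraticMap.map_neg,
    polar_neg_left]
  module

theorem kappa2 {κ : U →ₗ[F] U} (hκ : ∀ v v', polar QU (κ v) v' = - polar QU v (κ v')) (h2 : (2 : F) ≠ 0)
    {u x : U} (hu : QU u = 0) (hx : polar QU u x = 0) (v : U) :
    (cj (siegel QU u x hu hx) (cj (siegel QU u x hu hx) κ - κ) - (cj (siegel QU u x hu hx) κ - κ)) v =
      polar QU ((2 * QU x) • κ u - (2 * polar QU (κ u) x) • x) v • u -
        polar QU u v • ((2 * QU x) • κ u - (2 * polar QU (κ u) x) • x) := by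
  have hxu : polar QU x u = 0 := by rw [polar_comm]; exact hx
  have huu : polar QU u u = 0 := polar_self_of_sing hu
  have hxx : polar QU x x = 2 * QU x := polar_self' x
  have e0 : ∀ v, polar QU v (κ v) = 0 := by
    intro v
    have h1 := hκ v v
    rw [polar_comm] at h1
    have h3 : 2 * polar QU v (κ v) = 0 := by linear_combination h1
    exact (mul_eq_zero.1 h3).resolve_left h2
  have e1 : ∀ p, polar QU u (κ p) = - polar QU (κ u) p := by
    intro p; rw [hκ u p, neg_neg]
  have e2 : ∀ p, polar QU x (κ p) = - polar QU (κ x) p := by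
    intro p; rw [hκ x p, neg_neg]
  have e3 : polar QU (κ u) u = 0 := by rw [polar_comm]; exact e0 u
  have e4 : polar QU (κ x) x = 0 := by rw [polar_comm]; exact e0 x
  have e5 : polar QU (κ x) u = - polar QU (κ u) x := by rw [hκ x u, polar_comm]
  simp only [LinearMap.sub_apply, cj_apply, siegel_inv_apply, siegel_apply, map_sub, map_add, map_smul,
    polar_sub_right, polar_add_right, polar_smul_right, polar_sub_left, polar_smul_left, hx, hxu, huu, hxx,
    e1, e2, e3, e4, e5, smul_eq_mul]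
  module

end kap

variable {F : Type*} {U : Type*} {W : Type*} {V : Type*} [Field F] [AddCommGroup U] [Module F U]
  [AddCommGroup W] [Module F W] [AddCommGroup V] [Module F V]
  {t : U →ₗ[F] W →ₗ[F] V} {QU : QuadraticForm F U} {QW : QuadraticForm F W} {Q : QuadraticForm F V}
  {X : Subgroup (V ≃ₗ[F] V)}

/-- `X` contains `1 + κ ⊗ (w w*)`. -/
def InZ (t : U →ₗ[F] W →ₗ[F] V) (QW : QuadraticForm F W) (X : Subgroup (V ≃ₗ[F] V)) (w : W) (κ : U →ₗ[F] U) :
    Prop := ∃ g ∈ X, ∀ u z, g (t u z) = t u z + polar QW w z • t (κ u) w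

/-- No totally singular line of `U` contains its perp modulo singular vectors (fails for plus type, dimension 4). -/
def PU (QU : QuadraticForm F U) : Prop := ∀ u v : U, QU u = 0 → QU v = 0 → polar QU u v = 0 → u ≠ 0 →
  (∀ c : F, v ≠ c • u) → ∃ x, polar QU u x = 0 ∧ polar QU v x = 0 ∧ QU x ≠ 0

namespace TSt

variable (S : TSt t QU QW Q)

include S

theorem inZ_skew (hX : X ≤ O Q) {w : W} (hw : QW w = 0) (hw0 : w ≠ 0) {κ : U →ₗ[F] U} (h : InZ t QW X w κ)
    (u u' : U) : polar QU (κ u) u' = - polar QU u (κ u') := by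
  obtain ⟨g, hg, hgt⟩ := h
  obtain ⟨z, hz⟩ := S.ndW.exists_polar_eq hw0 1
  have h1 := polar_map (hX hg) (t u z) (t u' z)
  rw [hgt, hgt] at h1
  simp only [polar_add_left, polar_add_right, polar_smul_left, polar_smul_right, S.pol, hz, polar_self_of_sing hw,
    polar_comm QW z w, smul_eq_mul] at h1
  linear_combination h1

theorem inZ_sub {w : W} (hw : QW w = 0) {κ κ' : U →ₗ[F] U} (h : InZ t QW X w κ) (h' : InZ t QW X w κ') :
    InZ t QW X w (κ - κ') := by
  obtain ⟨g, hg, hgt⟩ := h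
  obtain ⟨g', hg', hgt'⟩ := h'
  have hinv : ∀ u z, g'⁻¹ (t u z) = t u z - polar QW w z • t (κ' u) w := by
    intro u z
    have h1 : g' (t u z - polar QW w z • t (κ' u) w) = t u z := by
      rw [map_sub, map_smul, hgt', hgt', polar_self_of_sing hw]
      module
    have h2 : g'⁻¹ (g' (t u z - polar QW w z • t (κ' u) w)) = t u z - polar QW w z • t (κ' u) w :=
      LinearEquiv.symm_apply_apply g' _
    rw [h1] at h2
    exact h2
  refine ⟨g * g'⁻¹, X.mul_mem hg (X.inv_mem hg'), fun u z => ?_⟩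
  show g (g'⁻¹ (t u z)) = _
  rw [hinv, map_sub, map_smul, hgt, hgt, polar_self_of_sing hw]
  simp only [LinearMap.sub_apply, map_sub]
  module

theorem inZ_cj {w : W} {κ : U →ₗ[F] U} (h : InZ t QW X w κ) {k : U ≃ₗ[F] U} (hk : rU S.ten k ∈ X) :
    InZ t QW X w (cj k κ) := by
  obtain ⟨g, hg, hgt⟩ := h
  refine ⟨rU S.ten k * g * (rU S.ten k)⁻¹, X.mul_mem (X.mul_mem hk hg) (X.inv_mem hk), fun u z => ?_⟩
  have h1 : (rU S.ten k)⁻¹ (t u z) = t (k⁻¹ u) z := by rw [← map_inv, rU_apply]
  show rU S.ten k (g ((rU S.ten k)⁻¹ (t u z))) = _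
  rw [h1, hgt, map_add, map_smul, rU_apply, rU_apply, cj_apply]
  have h2 : k (k⁻¹ u) = u := LinearEquiv.apply_symm_apply k u
  rw [h2]

theorem has_of_inZ {w : W} (hw : QW w = 0) {κ : U →ₗ[F] U} (h : InZ t QW X w κ) {u y : U}
    (hu : QU u = 0) (hy : polar QU u y = 0) (hκ : ∀ v, κ v = polar QU u v • y - polar QU y v • u) :
    Has Q X (t u w) (t y w) := by
  obtain ⟨g, hg, hgt⟩ := h
  have hp : polar Q (t u w) (t y w) = 0 := by rw [S.pol, hy, zero_mul]
  refine ⟨S.sing_left hu w, hp, ?_⟩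
  have e : siegel Q (t u w) (t y w) (S.sing_left hu w) hp = g := by
    refine ext_t' S.ten fun a z => ?_
    rw [siegel_apply, hgt, S.pol, S.pol, S.sing_right y hw, hκ]
    simp only [map_sub, map_smul, LinearMap.sub_apply, LinearMap.smul_apply]
    module
  rw [e]
  exact hg

theorem has_y (hX : Ovg S X) {w : W} (hw : QW w = 0) (hw0 : w ≠ 0) {κ : U →ₗ[F] U} (h : InZ t QW X w κ)
    {u x : U} (hu : QU u = 0) (hx : polar QU u x = 0) :
    Has Q X (t u w) (t ((2 * QU x) • κ u - (2 * polar QU (κ u) x) • x) w) := by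
  have hsk := S.inZ_skew hX.le hw hw0 h
  have hk : rU S.ten (siegel QU u x hu hx) ∈ X := hX.rU _ (siegel_mem_E hu hx)
  have h1 := S.inZ_sub hw (S.inZ_cj h hk) h
  have h2 := S.inZ_sub hw (S.inZ_cj h1 hk) h1
  have h3 := kappa2 hsk S.two hu hx
  have hxu : polar QU u (κ u) = 0 := by
    have h4 := hsk u u
    rw [polar_comm] at h4
    have h5 : 2 * polar QU u (κ u) = 0 := by linear_combination h4
    exact (mul_eq_zero.1 h5).resolve_left S.two
  have hp : polar QU u ((2 * QU x) • κ u - (2 * polar QU (κ u) x) • x) = 0 := by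
    rw [polar_sub_right, polar_smul_right, polar_smul_right, hxu, hx]; simp
  have h4 := S.has_of_inZ hw h2 (u := u) (y := -((2 * QU x) • κ u - (2 * polar QU (κ u) x) • x)) hu
    (by rw [polar_neg_right, hp, neg_zero]) (by
      intro v
      rw [h3, polar_neg_left]
      module)
  refine h4.neg.congr rfl ?_
  rw [map_neg, LinearMap.neg_apply, neg_neg]

/-- **Case 1.** -/
theorem E_le_of_inZ (hX : Ovg S X) (hPU : PU QU) {w : W} (hw : QW w = 0) (hw0 : w ≠ 0) {κ : U →ₗ[F] U}
    (h : InZ t QW X w κ) (hκ : κ ≠ 0) : E Q ≤ X := by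
  have hsk := S.inZ_skew hX.le hw hw0 h
  obtain ⟨x0, y0, hxy0⟩ := hX.sU
  have hself : ∀ u, polar QU u (κ u) = 0 := by
    intro u
    have h4 := hsk u u
    rw [polar_comm] at h4
    have h5 : 2 * polar QU u (κ u) = 0 := by linear_combination h4
    exact (mul_eq_zero.1 h5).resolve_left S.two
  obtain ⟨u, hu, hku⟩ : ∃ u, QU u = 0 ∧ ∀ c : F, κ u ≠ c • u := by
    by_contra hcon
    push Not at hcon
    obtain ⟨c, hc⟩ := scalar_of_sing S.two S.ndU hX.dU hxy0 κ hcon
    apply hκ
    have h1 := hsk x0 y0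
    rw [hc, hc, polar_smul_left, polar_smul_right, hxy0.pair] at h1
    have h5 : 2 * c = 0 := by
      have : c * 1 = -(c * 1) := h1
      linear_combination this
    have hc0 := (mul_eq_zero.1 h5).resolve_left S.two
    ext v
    rw [hc, hc0, zero_smul]; rfl
  have hu0 : u ≠ 0 := by
    rintro rfl
    exact hku 0 (by simp)
  obtain ⟨u', hyp⟩ := LieClassical.OrthTrans.exists_hyp S.ndU hu hu0
  obtain ⟨x1, hx1, -, hx1n⟩ := exists_nonsing_perp S.ndU hX.dU hyp
  by_cases hq : QU (κ u) = 0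
  · obtain ⟨x', hx', hx'2, hx'n⟩ := hPU u (κ u) hu hq (hself u) hu0 hku
    obtain ⟨x, hx, hx2⟩ := exists_sep S.ndU hku
    have h1 := S.has_y hX hw hw0 h hu hx
    have h2 := S.has_y hX hw hw0 h hu hx'
    refine S.E_le_of_has hX hu hu0 hw hw0 ?_ ?_ ?_ h1 h2
    · rw [polar_sub_right, polar_smul_right, polar_smul_right, hself, hx]; simp
    · rw [polar_sub_right, polar_smul_right, polar_smul_right, hself, hx']; simp
    · rw [hx'2, hx2]
      simp only [mul_zero, zero_smul, sub_zero, polar_sub_right, polar_smul_left, polar_smul_right, mul_one,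
        polar_self_of_sing hq, hx2, smul_eq_mul]
      intro h0
      have : 2 * (2 * QU x') = 0 := by linear_combination -h0
      exact mul_ne_zero S.two (mul_ne_zero S.two hx'n) this
  · have h1 := S.has_y hX hw hw0 h hu hx1
    have hp : polar QU u ((2 * QU x1) • κ u - (2 * polar QU (κ u) x1) • x1) = 0 := by
      rw [polar_sub_right, polar_smul_right, polar_smul_right, hself, hx1]; simp
    refine S.E_le_of_has hX hu hu0 hw hw0 hp hp ?_ h1 h1
    have e : polar QU ((2 * QU x1) • κ u - (2 * polar QU (κ u) x1) • x1)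
        ((2 * QU x1) • κ u - (2 * polar QU (κ u) x1) • x1) = (2 * QU x1) * (2 * QU x1) * (2 * QU (κ u)) := by
      have e1 := polar_self' (Q := QU) (κ u)
      have e2 := polar_self' (Q := QU) x1
      simp only [polar_sub_left, polar_sub_right, polar_smul_left, polar_smul_right, smul_eq_mul, e1, e2,
        polar_comm QU x1 (κ u)]
      ring
    rw [e]
    exact mul_ne_zero (mul_ne_zero (mul_ne_zero S.two hx1n) (mul_ne_zero S.two hx1n)) (mul_ne_zero S.two hq)

end TSt

end Cfsg.Agent.H882.Ten
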